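import Cfsg.Agent.H300.Ru.Cls
import Cfsg.Agent.H300.Cls.GenChar
import Cfsg.Agent.H300.Cls.Edge
import Cfsg.Agent.H300.K4.Val
import Cfsg.Agent.H707.RowRu

/-!
# The characters of degrees 783, 3276 and the edge character of the Rudvalis group (helper300)
-/

set_option autoImplicit false
set_option maxRecDepth 100000
set_option exponentiation.threshold 5000

namespace Cfsg.Agent.H300.Ru

open Cfsg Cfsg.Agent.Lib Cfsg.Agent.Lib.BitNet Cfsg.Agent.SporadicB Cfsg.Agent.SporadicB.RuData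
open Cfsg.Agent.SporadicB.RuOrder Cfsg.Agent.RuD.Data Cfsg.Agent.SporRec.TCUpperCert Cfsg.Agent.SporRec.R3.Kernel
open Cfsg.Agent.RuD.Letters Cfsg.Agent.KFacts.Ru.CentEng Finset

/-! ### the graph -/

theorem smul_def (g : H) (p : Fin 4060) : g • p = (g : Equiv.Perm (Fin 4060)) p := rfl

theorem adj_smul (g : H) (p q : Fin 4060) : Adj (g • p) (g • q) ↔ Adj p q := adj_iff g p q

theorem not_adj_self (p : Fin 4060) : ¬ Adj p p := by
  have ht := isPretransitive
  obtain ⟨c, rfl⟩ := MulAction.exists_smul_eq H b1 p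
  rw [adj_smul]
  have h : (row 0).testBit 0 = false := by decide +kernel
  intro h1
  have h2 : (row 0).testBit 0 = true := h1
  rw [h] at h2
  exact Bool.false_ne_true h2

/-! ### rank 3 -/

def cls (y : Fin 4060) : Fin 3 := if y = b1 then 0 else if Adj b1 y then 1 else 2

def r3 : Fin 3 → Fin 4060 := ![b1, Cfsg.Agent.H707.RowRu.p, b2]

def om (x y z : ℚ) (u v : Fin 4060) : ℚ := if u = v then x else if Adj u v then y else z

theorem om_smul (x y z : ℚ) (g : H) (u v : Fin 4060) : om x y z (g • u) (g • v) = om x y z u v := by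
  rw [om, om]
  simp only [adj_smul, (MulAction.injective g).eq_iff]

theorem om_symm (x y z : ℚ) (u v : Fin 4060) : om x y z u v = om x y z v u := by
  rw [om, om]
  have h : Adj u v ↔ Adj v u := ⟨adj_symm, adj_symm⟩
  simp only [h, eq_comm (a := u) (b := v)]

noncomputable def clsM (j : ℕ) : ℕ :=
  Nat.rec (motive := fun _ => ℕ) 1 (fun j _ => Nat.rec (motive := fun _ => ℕ) (row 0)
    (fun _ _ => Nat.xor (Nat.xor full 1) (row 0)) j) j

theorem clsM_iff (j : Fin 3) (y : Fin 4060) : (clsM j).testBit y = true ↔ cls y = j := by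
  have h0 : (row 0).testBit 0 = false := by decide +kernel
  have hone : (1 : ℕ).testBit y = true ↔ (y : ℕ) = 0 := by
    rw [Nat.testBit_one_eq_true_iff_self_eq_zero]
  have e0 : clsM 0 = 1 := rfl
  have e1 : clsM 1 = row 0 := rfl
  have e2 : (clsM 2).testBit y = ((true ^^ (1 : ℕ).testBit y) ^^ (row 0).testBit y) := by
    change ((full ^^^ 1) ^^^ (row 0)).testBit y = _
    rw [Nat.testBit_xor, Nat.testBit_xor, testBit_full]
  by_cases h1 : y = b1
  · have hy : (y : ℕ) = 0 := by rw [h1]; rfl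
    have hc : cls y = 0 := by rw [cls, if_pos h1]
    have h4 : (1 : ℕ).testBit y = true := hone.2 hy
    have h5 : (row 0).testBit y = false := by rw [hy]; exact h0
    rw [hc]
    fin_cases j
    · change (clsM 0).testBit y = true ↔ _
      rw [e0, h4]
      simp
    · change (clsM 1).testBit y = true ↔ _
      rw [e1, h5]
      simp
    · change (clsM 2).testBit y = true ↔ _
      rw [e2, h4, h5]
      simp
  · have hy : ¬ (y : ℕ) = 0 := fun h => h1 (Fin.ext h)
    have h4 : (1 : ℕ).testBit y = false := by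
      rw [← Bool.not_eq_true, hone]
      exact hy
    by_cases h2 : Adj b1 y
    · have hc : cls y = 1 := by rw [cls, if_neg h1, if_pos h2]
      have h5 : (row 0).testBit y = true := h2
      rw [hc]
      fin_cases j
      · change (clsM 0).testBit y = true ↔ _
        rw [e0, h4]
        simp
      · change (clsM 1).testBit y = true ↔ _
        rw [e1, h5]
        simp
      · change (clsM 2).testBit y = true ↔ _
        rw [e2, h4, h5]
        simp
    · have hc : cls y = 2 := by rw [cls, if_neg h1, if_neg h2]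
      have h5 : (row 0).testBit y = false := by rw [← Bool.not_eq_true]; exact h2
      rw [hc]
      fin_cases j
      · change (clsM 0).testBit y = true ↔ _
        rw [e0, h4]
        simp
      · change (clsM 1).testBit y = true ↔ _
        rw [e1, h5]
        simp
      · change (clsM 2).testBit y = true ↔ _
        rw [e2, h4, h5]
        simp

noncomputable def chkB (j c k0 k1 k2 : ℕ) : Bool :=
  Bool.rec false (Bool.rec false (Bool.rec false (Bool.rec false (Nat.beq (Nat.shiftRight (clsM j) 4060) 0)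
    (Nat.beq (popc 12 (Nat.land (row 29) (clsM j))) k2)) (Nat.beq (popc 12 (Nat.land (row 3) (clsM j))) k1))
    (Nat.beq (popc 12 (Nat.land (row 0) (clsM j))) k0)) (Nat.beq (popc 12 (clsM j)) c)

theorem kB0 : chkB 0 1 0 1 0 = true := by decide +kernel
theorem kB1 : chkB 1 1755 1755 730 780 = true := by decide +kernel
theorem kB2 : chkB 2 2304 0 1024 975 = true := by decide +kernel

def Bm : Fin 3 → Fin 3 → ℚ := ![![0, 1755, 0], ![1, 730, 1024], ![0, 780, 975]]

theorem clsM_ge {j : ℕ} (h : Nat.beq (Nat.shiftRight (clsM j) 4060) 0 = true) (i : ℕ) (hi : 4060 ≤ i) :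
    (clsM j).testBit i = false := by
  have h1 : (clsM j) >>> 4060 = 0 := Nat.eq_of_beq_eq_true h
  have h2 : ((clsM j) >>> 4060).testBit (i - 4060) = (clsM j).testBit i := by
    rw [Nat.testBit_shiftRight]
    congr 1
    omega
  rw [← h2, h1, Nat.zero_testBit]

theorem colB (j : Fin 3) {c k0 k1 k2 : ℕ} (h : chkB j c k0 k1 k2 = true) :
    (univ.filter fun y => cls y = j).card = c ∧
    (univ.filter fun y => Adj (r3 0) y ∧ cls y = j).card = k0 ∧
    (univ.filter fun y => Adj (r3 1) y ∧ cls y = j).card = k1 ∧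
    (univ.filter fun y => Adj (r3 2) y ∧ cls y = j).card = k2 := by
  obtain ⟨h1, h⟩ := and2 h
  obtain ⟨h2, h⟩ := and2 h
  obtain ⟨h3, h⟩ := and2 h
  obtain ⟨h4, h5⟩ := and2 h
  have hge := clsM_ge h5
  have key : ∀ (p : Fin 4060) (k : ℕ), Nat.beq (popc 12 (Nat.land (row p) (clsM j))) k = true →
      (univ.filter fun y => Adj p y ∧ cls y = j).card = k := by
    intro p k hk
    rw [← Nat.eq_of_beq_eq_true hk]
    refine (popc_eq_card (fun i => ?_) fun i hi => ?_).symm
    · rw [testBit_land, Bool.and_eq_true, clsM_iff]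
    · rw [testBit_land, hge i hi, Bool.and_false]
  refine ⟨?_, key b1 _ h2, key Cfsg.Agent.H707.RowRu.p _ h3, key b2 _ h4⟩
  rw [← Nat.eq_of_beq_eq_true h1]
  exact (popc_eq_card (fun i => clsM_iff j i) hge).symm

theorem hB (i j : Fin 3) : ∑ y ∈ univ.filter (fun y => cls y = j), om 0 1 0 (r3 i) y = Bm i j := by
  have h : ∑ y ∈ univ.filter (fun y => cls y = j), om 0 1 0 (r3 i) y =
      ((univ.filter fun y => Adj (r3 i) y ∧ cls y = j).card : ℚ) := by
    have h1 : ∀ y, om 0 1 0 (r3 i) y = if Adj (r3 i) y then 1 else 0 := by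
      intro y
      rw [om]
      split_ifs with h1 h2 h2
      · rw [h1] at h2
        exact absurd h2 (not_adj_self _)
      · rfl
      · rfl
      · rfl
    rw [Finset.sum_congr rfl fun y _ => h1 y, ← Finset.sum_filter, Finset.sum_const, nsmul_eq_mul, mul_one,
      Finset.filter_filter]
    congr 2
    ext y
    simp only [mem_filter, mem_univ, true_and]
    exact and_comm
  rw [h]
  have c0 := colB 0 kB0
  have c1 := colB 1 kB1
  have c2 := colB 2 kB2
  fin_cases i <;> fin_cases j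
  · exact (congrArg (Nat.cast : ℕ → ℚ) c0.2.1).trans (by norm_num [Bm])
  · exact (congrArg (Nat.cast : ℕ → ℚ) c1.2.1).trans (by norm_num [Bm])
  · exact (congrArg (Nat.cast : ℕ → ℚ) c2.2.1).trans (by norm_num [Bm])
  · exact (congrArg (Nat.cast : ℕ → ℚ) c0.2.2.1).trans (by norm_num [Bm])
  · exact (congrArg (Nat.cast : ℕ → ℚ) c1.2.2.1).trans (by norm_num [Bm])
  · exact (congrArg (Nat.cast : ℕ → ℚ) c2.2.2.1).trans (by norm_num [Bm])
  · exact (congrArg (Nat.cast : ℕ → ℚ) c0.2.2.2).trans (by norm_num [Bm])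
  · exact (congrArg (Nat.cast : ℕ → ℚ) c1.2.2.2).trans (by norm_num [Bm])
  · exact (congrArg (Nat.cast : ℕ → ℚ) c2.2.2.2).trans (by norm_num [Bm])

def kk : Fin 3 → ℕ := ![1, 1755, 2304]

theorem hk (j : Fin 3) : (univ.filter fun y => cls y = j).card = kk j := by
  fin_cases j
  · exact (colB 0 kB0).1
  · exact (colB 1 kB1).1
  · exact (colB 2 kB2).1

theorem cls_smul (g : H) (hg : g ∈ MulAction.stabilizer H b1) (x : Fin 4060) : cls (g • x) = cls x := by
  have h1 : g • b1 = b1 := hg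
  have h2 : Adj b1 (g • x) ↔ Adj b1 x := by
    conv_lhs => rw [← h1]
    exact adj_smul g b1 x
  have h3 : g • x = b1 ↔ x = b1 := by
    conv_lhs => rw [← h1]
    exact (MulAction.injective g).eq_iff
  rw [cls, cls]
  simp only [h2, h3]

theorem htr (x : Fin 4060) : ∃ g ∈ MulAction.stabilizer H b1, g • r3 (cls x) = x := by
  have key : ∀ z, x ∈ MulAction.orbit H1 z → ∃ g ∈ MulAction.stabilizer H b1, g • z = x := by
    rintro z ⟨σ, rfl⟩
    exact ⟨⟨σ, σ.2.1⟩, σ.2.2, rfl⟩
  have h29 : (row 0).testBit 29 = false := Cfsg.Agent.H707.RowRu.row0.1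
  have h3 : (row 0).testBit 3 = true := Cfsg.Agent.H707.RowRu.row0.2
  have hb : ∀ z, x ∈ MulAction.orbit H1 z → (x = b1 ↔ z = b1) := by
    rintro z ⟨σ, rfl⟩
    have h3 : (σ : Equiv.Perm (Fin 4060)) b1 = b1 := σ.2.2
    constructor
    · intro h
      exact (σ : Equiv.Perm (Fin 4060)).injective (h.trans h3.symm)
    · rintro rfl
      exact h3
  rcases Cfsg.Agent.H707.RowRu.cover x with h | h | h
  · refine ⟨1, Subgroup.one_mem _, ?_⟩
    rw [one_smul, cls, if_pos h, h]
    rfl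
  · have h1 : cls x = 2 := by
      have h4 : ¬ x = b1 := by
        rw [hb _ h]
        decide
      have h5 : ¬ Adj b1 x := by
        have h6 : (row 0).testBit x = (row 0).testBit b2 := Cfsg.Agent.H707.RowRu.row_of_mem h
        intro h7
        have h8 : (row 0).testBit x = true := h7
        rw [h6] at h8
        have h9 : (row 0).testBit 29 = true := h8
        rw [h29] at h9
        exact Bool.false_ne_true h9
      rw [cls, if_neg h4, if_neg h5]
    rw [h1]
    exact key _ h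
  · have h1 : cls x = 1 := by
      have h4 : ¬ x = b1 := by
        rw [hb _ h]
        decide
      have h5 : Adj b1 x := by
        have h6 : (row 0).testBit x = (row 0).testBit Cfsg.Agent.H707.RowRu.p := Cfsg.Agent.H707.RowRu.row_of_mem h
        exact h6.trans h3
      rw [cls, if_neg h4, if_pos h5]
    rw [h1]
    exact key _ h

theorem om_r3 (x y z : ℚ) (i : Fin 3) : om x y z b1 (r3 i) = (![x, y, z] : Fin 3 → ℚ) i := by
  have h29 : (row 0).testBit 29 = false := Cfsg.Agent.H707.RowRu.row0.1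
  have h3 : (row 0).testBit 3 = true := Cfsg.Agent.H707.RowRu.row0.2
  rw [om]
  fin_cases i
  · exact if_pos rfl
  · have h1 : ¬ b1 = r3 1 := by decide
    have h2 : Adj b1 (r3 1) := h3
    exact (if_neg h1).trans (if_pos h2)
  · have h1 : ¬ b1 = r3 2 := by decide
    have h2 : ¬ Adj b1 (r3 2) := by
      intro h
      have h9 : (row 0).testBit 29 = true := h
      rw [h29] at h9
      exact Bool.false_ne_true h9
    exact (if_neg h1).trans (if_neg h2)

theorem inv_mem_zp (g : H) : g⁻¹ ∈ Subgroup.zpowers g ∧ g ∈ Subgroup.zpowers g⁻¹ := by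
  refine ⟨inv_mem (Subgroup.mem_zpowers g), ?_⟩
  have := inv_mem (Subgroup.mem_zpowers g⁻¹)
  rwa [inv_inv] at this

theorem a1_inv (g : H) : a1 g⁻¹ = a1 g := by
  rw [a1, a1]
  symm
  refine card_conj g _ _ fun p => ?_
  have h : ((g⁻¹ : H) : Equiv.Perm (Fin 4060)) ((g : Equiv.Perm (Fin 4060)) p) = p :=
    (g : Equiv.Perm (Fin 4060)).symm_apply_apply p
  rw [h]
  exact ⟨adj_symm, adj_symm⟩

/-- sum of a spherical function -/
theorem sum_om (x y z : ℚ) (g : H) : ∑ u : Fin 4060, om x y z u (g⁻¹ • u) =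
    x * fixC g + y * a1 g + z * (4060 - fixC g - a1 g) := by
  have h : ∀ u : Fin 4060, om x y z u (g⁻¹ • u) = (x - z) * (if ((g⁻¹ : H) : Equiv.Perm (Fin 4060)) u = u then 1 else 0) +
      (y - z) * (if Adj u (((g⁻¹ : H) : Equiv.Perm (Fin 4060)) u) then 1 else 0) + z := by
    intro u
    rw [om, smul_def]
    by_cases h1 : ((g⁻¹ : H) : Equiv.Perm (Fin 4060)) u = u
    · rw [h1, if_pos rfl, if_pos rfl, if_neg (not_adj_self u)]
      ring
    · rw [if_neg (fun h => h1 h.symm), if_neg h1]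
      by_cases h2 : Adj u (((g⁻¹ : H) : Equiv.Perm (Fin 4060)) u)
      · rw [if_pos h2, if_pos h2]
        ring
      · rw [if_neg h2, if_neg h2]
        ring
  rw [Finset.sum_congr rfl fun u _ => h u, Finset.sum_add_distrib, Finset.sum_add_distrib, ← Finset.mul_sum,
    ← Finset.mul_sum, Finset.sum_boole, Finset.sum_boole, Finset.sum_const, Finset.card_univ, Fintype.card_fin,
    nsmul_eq_mul]
  have h1 : ((univ.filter fun u : Fin 4060 => ((g⁻¹ : H) : Equiv.Perm (Fin 4060)) u = u).card : ℚ) = fixC g := by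
    rw [fixC_congr (g := g) (g' := g⁻¹) (inv_mem_zp g).2 (inv_mem_zp g).1]
    rfl
  have h2 : ((univ.filter fun u : Fin 4060 => Adj u (((g⁻¹ : H) : Equiv.Perm (Fin 4060)) u)).card : ℚ) = a1 g := by
    rw [← a1_inv g]
    rfl
  rw [h1, h2]
  push_cast
  ring

/-- the character for an eigenvalue -/
theorem char (y z t : ℚ) (L : Fin 3 → Fin 3 → ℚ) (d : ℕ)
    (hBa : ∀ i : Fin 3, ∑ j : Fin 3, Bm i j * (![1, y, z] : Fin 3 → ℚ) j = t * (![1, y, z] : Fin 3 → ℚ) i)
    (hL : ∀ i j : Fin 3, ∑ l : Fin 3, L i l * (Bm l j - if l = j then t else 0) =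
      (if i = j then 1 else 0) - if j = 0 then (![1, y, z] : Fin 3 → ℚ) i else 0)
    (hd : (d : ℚ) * ∑ j : Fin 3, (kk j : ℚ) * ((![1, y, z] : Fin 3 → ℚ) j * (![1, y, z] : Fin 3 → ℚ) j) = (4060 : ℕ)) :
    ∃ χ : H → ℂ, IsIrrCharacter H χ ∧ χ 1 = d ∧
      ∀ g : H, χ g = (((d : ℚ) / (4060 : ℕ) * (1 * fixC g + y * a1 g + z * (4060 - fixC g - a1 g)) : ℚ) : ℂ) := by
  have ht := isPretransitive
  obtain ⟨χ, h1, h2, h3⟩ := Cfsg.Agent.H300.K4.Val.exists_of_kernel_val (G := H) (X := Fin 4060) (n := 3) (om 0 1 0)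
    (om_smul 0 1 0) b1 (MulAction.stabilizer H b1) (fun g hg => hg) cls r3 cls_smul htr Bm hB kk hk 0
    (by rw [cls, if_pos rfl]) ![1, y, z] t L d 4060 (Fintype.card_fin _) rfl hBa hL hd (om 1 y z) (om_smul 1 y z)
    (om_symm 1 y z) (om_r3 1 y z)
  refine ⟨χ, h1, h2, fun g => ?_⟩
  rw [h3 g, sum_om]

/-- the table of values -/
theorem tab_of {d : ℕ} {y z : ℚ} {v : List ℤ} (h : ∀ i : Fin 28, (d : ℚ) / (4060 : ℕ) * (1 * (fx i 1 : ℚ) +
    y * ((fm i).A : ℚ) + z * (4060 - (fx i 1 : ℚ) - ((fm i).A : ℚ))) = (v.getD i 0 : ℤ)) {χ : H → ℂ}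
    (hχ : ∀ g : H, χ g = (((d : ℚ) / (4060 : ℕ) * (1 * fixC g + y * a1 g + z * (4060 - fixC g - a1 g)) : ℚ) : ℂ)) :
    χ = Cls.tv fam v := by
  funext g
  rw [hχ, fixC_fam, a1_fam, h ⟨fam g, fam_lt g⟩]
  simp [Cls.tv]

def va : List ℤ := [783, -1, 15, 0, -1, -1, 15, 15, 3, 8, 0, -1, -1, 3, 3, -1, 0, 0, 0, 3, -1, 0, 1, 0, 0, 0, -1, 0]

def vb : List ℤ := [3276, 0, 76, 9, 4, 8, 4, 16, -4, 1, 1, 0, 2, 0, 2, 0, 1, 1, 1, 0, 0, -1, 0, -1, 1, -1, 0, -1]

def ve : List ℤ := [3562650, 910, 2586, 0, 50, 38, 66, 366, 0, 25, 0, 0, 4, 6, 12, 0, 1, 0, 0, 0, 0, 0, 2, 1, 1, 0, 0, 0]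

theorem irr_a : IsIrrCharacter H (Cls.tv fam va) := by
  obtain ⟨χ, h1, -, h3⟩ := char (-1/27) (1/36) (-65) ![![0, 0, 0], ![1/1755, 0, 0], ![-53/119808, 1/1024, 0]] 783
    (by decide +kernel) (by decide +kernel) (by decide +kernel)
  rwa [tab_of (v := va) (by decide +kernel) h3] at h1

theorem irr_b : IsIrrCharacter H (Cls.tv fam vb) := by
  obtain ⟨χ, h1, -, h3⟩ := char (1/117) (-1/144) 15 ![![0, 0, 0], ![1/1755, 0, 0], ![-11/27648, 1/1024, 0]] 3276
    (by decide +kernel) (by decide +kernel) (by decide +kernel)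
  rwa [tab_of (v := vb) (by decide +kernel) h3] at h1

theorem eOk : ∀ i : Fin 28, 2 * (ve.getD i 0).toNat = (fm i).O + (fm i).S ∧ ((ve.getD i 0).toNat : ℤ) = ve.getD i 0 := by
  decide +kernel

theorem char_e : IsCharacter H (Cls.tv fam ve) := by
  have h := Cls.isCharacter_edges (G := H) Adj (fun x y => adj_symm) not_adj_self adj_smul
    (fun g => (ve.getD (fam g) 0).toNat) (by
      intro g
      have h1 := (eOk ⟨fam g, fam_lt g⟩).1
      have h2 : 2 * (ve.getD (fam g) 0).toNat = o1 g + sw g := by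
        rw [o1_fam, sw_fam]
        exact h1
      rw [h2]
      rfl)
  have h0 : Cls.tv fam ve = fun g : H => (((ve.getD (fam g) 0).toNat : ℕ) : ℂ) := by
    funext g
    rw [Cls.tv, ← (eOk ⟨fam g, fam_lt g⟩).2]
    push_cast
    rfl
  rw [h0]
  exact h

end Cfsg.Agent.H300.Ru
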