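import Cfsg.Agent.H300.Ru.Eng

set_option autoImplicit false
set_option maxRecDepth 100000
set_option exponentiation.threshold 5000

namespace Cfsg.Agent.H300.Ru

open Cfsg.Agent.SporadicB Cfsg.Agent.SporRec.TCUpperCert Cfsg.Agent.RuD.Letters

theorem cl1 : chk [0] 10 0 4 12
  [.adj 1, .and 1 0, .diff 2 1, .base 0 2 2240, .diff 1 0, .img 1 2, .diff 1 0, .row 3 2, .and 1 0, .diff 2 1,
   .and 8 2, .diff 9 3, .row 6 2553, .and 3 0, .diff 4 1, .and 3 2, .diff 4 3, .and 8 4, .diff 9 5, .and 8 6,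
   .diff 9 7, .cnt 1 156, .and 7 0, .cnt 3 164, .cnt 4 172, .and 10 0, .cnt 6 188, .and 10 0, .and 11 3,
   .cnt 9 148, .and 11 6, .and 12 6, .and 11 2, .and 19 9, .and 20 9, .and 19 11, .and 20 14, .and 19 7,
   .base 5 25 52, .img 0 25, .row 1 25, .diff 15 0, .diff 13 1, .and 6 2, .diff 7 3, .diff 22 4, .diff 18 5,
   .diff 16 6, .and 16 7, .diff 15 8, .diff 15 9, .and 15 10, .diff 14 11, .row 13 2347, .diff 12 0, .diff 12 1,
   .diff 11 2, .diff 11 3, .diff 11 4, .diff 11 5, .diff 10 6, .diff 10 7, .diff 9 8, .and 19 9, .diff 15 10,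
   .diff 13 11, .cnt 7 0, .cnt 8 1, .and 13 0, .and 13 1, .and 13 3, .and 13 3, .and 12 5, .and 12 6, .and 11 7,
   .and 10 8, .and 10 9, .and 13 9, .row 2 2608, .diff 10 0, .diff 10 1, .diff 9 2, .diff 9 3, .diff 9 4,
   .diff 22 5, .and 10 6, .and 8 7, .and 16 8, .row 4 3681, .diff 9 0, .diff 9 1, .diff 9 2, .diff 15 3, .diff 7 4,
   .and 7 5, .and 7 6, .row 11 836, .diff 7 0, .diff 7 1, .diff 7 2, .diff 41 3, .diff 18 4, .diff 8 5, .diff 8 6,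
   .and 8 7, .row 4 1802, .diff 8 0, .diff 8 1, .diff 8 2, .row 7 1864, .diff 3 0, .diff 3 1, .diff 3 2, .and 20 3,
   .diff 11 4, .and 11 5, .diff 11 6, .row 4 2727, .diff 7 0, .diff 7 1, .and 5 2, .and 4 3, .row 2 894, .diff 4 0,
   .row 0 2831, .and 4 0]
  [full] 116480 = true := by decide +kernel

theorem cl2 : chk [2] 90 2 0 8
  [.fix 1, .and 1 0, .diff 2 1, .adj 1, .and 1 0, .diff 2 1, .cnt 4 91, .and 5 0, .base 2 0 2048, .diff 3 0,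
   .img 1 0, .diff 1 0, .row 3 0, .and 1 0, .diff 2 1, .and 10 2, .and 8 3, .diff 9 4, .row 7 1720, .and 4 0,
   .and 6 1, .diff 7 2, .diff 6 3, .cnt 5 0, .cnt 6 4, .cnt 7 2, .and 4 2, .and 7 3, .and 8 3, .and 8 3, .and 9 5,
   .base 1 85 120, .diff 2 0, .img 1 85, .diff 1 0, .row 3 85, .diff 13 0, .diff 20 1, .and 7 2, .diff 8 3,
   .and 13 4, .and 13 5, .diff 14 6, .and 14 7, .and 9 8, .row 11 2463, .diff 9 0, .diff 7 1, .diff 5 2, .and 10 3,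
   .and 9 4, .and 9 5, .and 8 6, .diff 9 7, .diff 9 8, .row 4 3966, .diff 9 0, .diff 9 1, .diff 9 2, .diff 5 3,
   .and 5 4, .and 11 5, .and 9 6, .row 11 4050, .diff 7 0, .diff 7 1, .diff 6 2, .and 6 3, .diff 6 4, .and 6 5,
   .cnt 32 0, .cnt 33 1, .and 7 0, .and 7 1, .and 7 2, .and 6 4, .and 8 5, .and 7 5, .row 1 3269, .diff 1 0,
   .diff 7 1, .and 6 2, .diff 6 3, .row 0 1225, .diff 10 0, .diff 26 1, .diff 5 2, .diff 5 3, .row 2 2517,
   .diff 4 0, .diff 10 1, .and 4 2, .and 4 3, .row 3 1262, .diff 56 0, .and 3 1, .and 3 2, .row 2 921, .diff 2 0]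
  [full] 245760 = true := by decide +kernel

theorem cl3 : chk [8] 2 6 0 10
  [.fix 1, .and 1 0, .diff 2 1, .adj 1, .and 1 0, .diff 2 1, .cnt 4 0, .and 1 0, .cnt 6 3, .and 3 0, .cnt 8 8,
   .and 5 0, .cnt 10 1, .and 8 0, .cnt 12 6, .and 10 0, .cnt 14 5, .and 12 0, .base 0 2 1080, .diff 1 0, .img 1 2,
   .diff 1 0, .img 1 2740, .diff 1 0, .row 5 2, .diff 23 0, .diff 2 1, .diff 19 2, .diff 18 3, .and 17 4,
   .and 16 5, .and 15 6, .diff 16 7, .row 12 2740, .and 7 0, .diff 8 1, .diff 8 2, .diff 8 3, .and 5 4, .and 9 5,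
   .diff 10 6, .and 10 7, .diff 10 8, .row 20 1745, .diff 8 0, .diff 7 1, .diff 5 2, .diff 4 3, .diff 13 4,
   .diff 10 5, .diff 10 6, .and 9 7, .cnt 26 2, .cnt 27 1, .cnt 28 5, .cnt 29 3, .and 11 0, .and 11 1, .and 12 4,
   .and 12 3, .and 12 5, .and 12 8, .and 12 7, .and 13 7, .base 3 1874 2, .diff 4 0, .img 1 1874, .diff 4 0,
   .row 2 3918, .diff 12 0, .diff 33 1, .diff 12 2, .diff 12 3, .diff 11 4, .diff 10 5, .diff 24 6, .diff 24 7,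
   .diff 19 8, .row 10 2404, .diff 9 0, .diff 9 1, .diff 9 2, .diff 9 3, .diff 9 4, .and 9 5, .diff 9 6, .diff 9 7,
   .diff 9 8, .row 1 3115, .diff 9 0, .diff 8 1, .diff 8 2, .and 8 3, .diff 9 4, .diff 8 5, .diff 7 6, .and 11 7,
   .row 1 319, .diff 72 0, .diff 9 1, .diff 19 2, .diff 10 3, .diff 10 4, .diff 9 5, .and 9 6, .diff 12 7,
   .diff 9 8, .row 4 1766, .diff 9 0, .diff 9 1, .diff 9 2, .diff 9 3, .and 8 4, .and 7 5, .diff 7 6, .diff 10 7,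
   .row 7 1301, .diff 7 0, .and 3 1, .and 6 2, .and 6 3, .row 10 1770, .diff 4 0, .diff 11 1, .diff 8 2, .diff 6 3,
   .row 3 2876, .diff 3 0, .and 2 1, .row 1 466, .diff 10 0]
  [full] 2160 = true := by decide +kernel

theorem cl4 : chk [7, 8, 5, 0, 3, 6] 3 0 10 11
  [.fix 1, .and 1 0, .diff 2 1, .fix 2, .and 1 0, .diff 2 1, .adj 1, .and 1 0, .diff 2 1, .adj 2, .and 1 0,
   .diff 2 1, .and 4 2, .base 1 1 1024, .diff 2 0, .img 1 1, .diff 1 0, .img 1 737, .diff 1 0, .img 1 726,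
   .diff 1 0, .row 7 1, .and 1 0, .diff 2 1, .diff 22 2, .diff 20 3, .and 15 4, .diff 16 5, .and 15 6, .diff 16 7,
   .row 14 737, .diff 7 0, .diff 6 1, .and 5 2, .diff 6 3, .and 5 4, .diff 6 5, .and 14 6, .diff 15 7, .and 12 8,
   .diff 13 9, .diff 12 10, .row 24 726, .and 11 0, .diff 9 1, .diff 8 2, .and 7 3, .diff 6 4, .diff 6 5,
   .diff 15 6, .diff 14 7, .diff 13 8, .and 12 9, .row 33 3695, .diff 9 0, .diff 9 1, .diff 8 2, .diff 8 3,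
   .diff 8 4, .diff 8 5, .diff 8 6, .and 17 7, .diff 15 8, .and 10 9, .cnt 39 0, .cnt 40 2, .cnt 41 1, .and 12 0,
   .and 12 1, .and 12 4, .and 11 3, .and 10 6, .and 11 6, .and 10 8, .and 12 7, .and 11 8, .cnt 2 1, .cnt 3 3,
   .cnt 4 2, .and 46 0, .and 12 3, .and 12 4, .cnt 8 4, .and 13 4, .and 26 6, .and 25 8, .and 11 9, .and 11 10,
   .and 17 11, .and 17 6, .and 17 11, .row 1 642, .diff 12 0, .diff 12 1, .diff 12 2, .diff 11 3, .diff 10 4,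
   .diff 10 5, .and 10 6, .diff 10 7, .diff 9 8, .diff 16 9, .row 1 2456, .diff 10 0, .diff 10 1, .diff 10 2,
   .diff 10 3, .diff 10 4, .diff 10 5, .diff 9 6, .diff 8 7, .and 12 8, .row 3 2098, .diff 88 0, .diff 10 1,
   .diff 10 2, .diff 10 3, .and 10 4, .diff 10 5, .and 9 6, .diff 9 7, .and 9 8, .row 8 2659, .diff 7 0, .diff 7 1,
   .diff 6 2, .and 5 3, .diff 5 4, .row 2 1028, .diff 5 0, .diff 5 1, .and 13 2, .and 4 3, .diff 6 4, .row 3 3415,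
   .diff 20 0, .diff 6 1, .diff 17 2, .row 1 1653, .diff 3 0, .diff 2 1, .diff 9 2, .row 2 3933, .diff 1 0]
  [full] 1024 = true := by decide +kernel

theorem cl5 : chk [1, 0] 123 0 17 46
  [.fix 1, .and 1 0, .diff 2 1, .fix 2, .and 1 0, .diff 2 1, .adj 1, .and 1 0, .diff 2 1, .and 4 2, .diff 5 3,
   .adj 2, .and 3 0, .and 5 1, .diff 6 2, .cnt 13 4, .and 1 0, .cnt 15 2, .and 3 0, .cnt 17 0, .and 7 0, .and 8 5,
   .and 8 4, .cnt 21 8, .and 10 0, .and 11 9, .base 7 0 512, .diff 8 0, .img 1 0, .diff 1 0, .img 1 3305,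
   .diff 1 0, .img 1 1787, .diff 1 0, .row 7 0, .and 33 0, .diff 34 1, .and 26 2, .diff 27 3, .diff 5 4,
   .diff 30 5, .diff 19 6, .diff 16 7, .and 26 8, .and 23 9, .diff 24 10, .and 23 11, .diff 22 12, .row 19 3305,
   .diff 10 0, .and 10 1, .diff 11 2, .diff 11 3, .diff 11 4, .diff 11 5, .diff 9 6, .diff 8 7, .diff 19 8,
   .and 14 9, .and 14 10, .and 13 11, .row 30 1787, .diff 10 0, .diff 9 1, .diff 9 2, .diff 9 3, .diff 9 4,
   .and 16 5, .and 9 6, .diff 9 7, .and 9 8, .row 38 975, .diff 9 0, .diff 9 1, .diff 9 2, .and 7 3, .diff 7 4,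
   .diff 6 5, .cnt 25 1, .cnt 26 0, .and 7 0, .and 6 2, .and 4 2, .and 7 3, .cnt 48 0, .cnt 49 2, .and 5 0,
   .and 6 2, .and 4 2, .cnt 6 0, .cnt 7 2, .cnt 8 1, .and 55 2, .and 43 3, .and 6 4, .and 21 3, .and 14 4,
   .and 31 5, .and 31 8, .and 41 7, .and 30 9, .and 24 9, .and 15 12, .and 14 12, .row 3 2873, .diff 11 0,
   .diff 11 1, .diff 11 2, .diff 11 3, .diff 11 4, .diff 11 5, .diff 11 6, .diff 10 7, .diff 10 8, .row 3 1758,
   .diff 9 0, .diff 9 1, .diff 9 2, .diff 9 3, .diff 9 4, .diff 8 5, .and 8 6, .row 6 840, .diff 30 0, .diff 5 1,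
   .diff 5 2, .diff 12 3, .and 5 4, .row 7 2050, .diff 11 0, .diff 5 1, .diff 5 2, .and 4 3, .row 1 3190,
   .diff 17 0, .diff 5 1, .diff 5 2, .row 0 2357, .diff 14 0, .diff 86 1, .diff 13 2, .row 2 2942, .diff 6 0,
   .row 3 3334, .diff 1 0, .row 0 2588, .diff 11 0, .diff 6 1, .row 1 655, .and 1 0]
  [full] 512 = true := by decide +kernel

theorem cl6 : chk [1] 97 3 0 2
  [.fix 1, .and 1 0, .diff 2 1, .fix 2, .and 1 0, .diff 2 1, .adj 1, .and 1 0, .diff 2 1, .adj 2, .and 1 0,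
   .diff 2 1, .cnt 10 20, .and 8 0, .cnt 12 4, .and 10 0, .cnt 14 12, .and 6 0, .cnt 16 8, .and 8 0,
   .base 8 0 1280, .diff 9 0, .img 1 0, .diff 1 0, .img 1 3554, .diff 1 0, .img 1 1787, .diff 1 0, .row 7 0,
   .and 1 0, .diff 2 1, .and 29 2, .and 16 3, .diff 17 4, .diff 26 5, .and 15 6, .diff 22 7, .diff 19 8,
   .row 15 3554, .diff 8 0, .and 6 1, .and 6 2, .diff 4 3, .and 13 4, .diff 14 5, .diff 12 6, .diff 10 7,
   .row 22 1787, .and 8 0, .diff 6 1, .and 5 2, .diff 4 3, .diff 10 4, .and 9 5, .row 27 2345, .diff 5 0,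
   .diff 4 1, .diff 4 2, .diff 9 3, .and 8 4, .diff 6 5, .cnt 24 0, .cnt 25 4, .cnt 26 6, .cnt 27 2, .and 7 0,
   .and 7 4, .and 6 3, .and 8 4, .and 9 6, .cnt 38 0, .cnt 39 2, .cnt 40 4, .cnt 41 6, .and 18 1, .and 29 4,
   .and 19 3, .and 36 6, .and 12 5, .and 9 7, .and 12 8, .and 12 7, .base 1 1307 3, .row 0 1307, .diff 9 0,
   .diff 9 1, .diff 8 2, .and 8 3, .diff 8 4, .diff 22 5, .diff 13 6, .diff 9 7, .row 0 1975, .diff 8 0, .diff 7 1,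
   .diff 6 2, .diff 6 3, .diff 6 4, .diff 10 5, .row 1 1740, .diff 6 0, .diff 15 1, .diff 7 2, .diff 7 3, .and 7 4,
   .diff 6 5, .row 3 3946, .diff 6 0, .diff 6 1, .and 5 2, .and 4 3, .and 6 4, .row 3 1091, .diff 5 0, .and 3 1,
   .diff 3 2, .row 2 701, .diff 7 0]
  [full] 3840 = true := by decide +kernel

theorem cl7 : chk [3, 5, 6, 7, 1, 1] 2 12 0 3
  [.fix 1, .and 1 0, .diff 2 1, .fix 2, .and 1 0, .diff 2 1, .adj 1, .and 1 0, .diff 2 1, .adj 2, .and 1 0,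
   .diff 2 1, .cnt 10 16, .and 1 0, .cnt 12 12, .and 3 0, .cnt 14 31, .and 15 0, .cnt 16 15, .and 17 0,
   .base 4 2 1280, .diff 5 0, .img 1 2, .diff 1 0, .img 1 2818, .diff 1 0, .img 1 1080, .diff 1 0, .row 7 2,
   .diff 1 0, .and 10 1, .diff 11 2, .diff 27 3, .diff 25 4, .and 23 5, .diff 24 6, .and 22 7, .diff 23 8,
   .diff 20 9, .row 16 2818, .and 10 0, .diff 8 1, .diff 8 2, .and 7 3, .diff 8 4, .diff 7 5, .and 11 6,
   .diff 10 7, .row 23 1080, .diff 6 0, .diff 5 1, .and 5 2, .diff 6 3, .diff 5 4, .diff 13 5, .and 11 6,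
   .diff 9 7, .row 30 2428, .diff 8 0, .diff 8 1, .diff 7 2, .and 7 3, .diff 7 4, .diff 6 5, .diff 12 6, .diff 9 7,
   .cnt 27 4, .and 4 0, .cnt 37 2, .cnt 38 0, .and 38 0, .and 29 1, .cnt 41 4, .and 14 0, .and 14 1, .and 7 6,
   .and 12 6, .and 12 8, .and 12 8, .and 17 10, .base 3 810 6, .diff 4 0, .img 1 810, .diff 4 0, .row 3 810,
   .diff 14 0, .diff 14 1, .diff 13 2, .and 13 3, .diff 28 4, .and 14 5, .and 13 6, .diff 12 7, .diff 11 8,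
   .row 0 1226, .diff 8 0, .diff 8 1, .diff 7 2, .diff 5 3, .diff 15 4, .diff 11 5, .and 10 6, .diff 10 7,
   .row 3 10, .diff 7 0, .diff 7 1, .and 7 2, .diff 6 3, .diff 5 4, .and 7 5, .row 5 3209, .diff 25 0, .diff 16 1,
   .diff 7 2, .and 6 3, .and 6 4, .and 9 5, .and 7 6, .row 6 1278, .diff 6 0, .diff 5 1, .and 5 2, .diff 4 3,
   .row 3 1538, .diff 3 0, .and 2 1, .diff 4 2, .row 13 2518, .and 3 0]
  [full] 7680 = true := by decide +kernel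

theorem cl8 : chk [2, 3, 6] 9 4 7 0
  [.adj 1, .and 1 0, .diff 2 1, .adj 2, .and 1 0, .diff 2 1, .and 4 2, .diff 5 3, .base 1 17 300, .diff 2 0,
   .img 1 17, .diff 1 0, .img 1 2644, .diff 1 0, .img 1 1964, .diff 1 0, .img 1 165, .diff 1 0, .row 9 17,
   .and 13 0, .diff 14 1, .and 13 2, .diff 14 3, .and 18 4, .diff 19 5, .and 7 6, .diff 8 7, .row 16 2644,
   .and 7 0, .and 6 1, .diff 7 2, .and 6 3, .diff 7 4, .and 6 5, .and 14 6, .diff 15 7, .and 14 8, .diff 15 9,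
   .and 14 10, .diff 13 11, .row 27 1964, .diff 10 0, .diff 9 1, .diff 7 2, .diff 6 3, .diff 5 4, .diff 17 5,
   .diff 17 6, .diff 16 7, .diff 15 8, .diff 15 9, .and 14 10, .diff 13 11, .row 38 165, .diff 12 0, .diff 12 1,
   .diff 12 2, .and 12 3, .diff 12 4, .diff 12 5, .diff 12 6, .and 12 7, .diff 12 8, .diff 12 9, .diff 11 10,
   .and 13 11, .row 49 1924, .diff 12 0, .diff 12 1, .diff 12 2, .diff 11 3, .diff 11 4, .and 11 5, .diff 10 6,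
   .diff 10 7, .and 10 8, .diff 18 9, .diff 15 10, .cnt 7 1, .cnt 8 2, .cnt 9 0, .and 13 0, .and 13 1, .and 13 4,
   .and 12 5, .and 10 6, .and 9 7, .and 9 7, .and 22 7, .and 16 8, .and 14 9, .row 2 2364, .diff 10 0, .diff 10 1,
   .diff 10 2, .diff 10 3, .diff 22 4, .diff 11 5, .and 11 6, .and 9 7, .diff 12 8, .diff 10 9, .row 5 308,
   .diff 10 0, .diff 9 1, .diff 9 2, .diff 8 3, .diff 6 4, .diff 6 5, .diff 10 6, .diff 10 7, .img 14 308,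
   .img 0 3460, .img 0 713, .img 0 926, .diff 44 0, .row 0 2956, .diff 12 0, .diff 12 1, .diff 12 2, .and 10 3,
   .row 3 390, .diff 18 0, .diff 29 1, .diff 4 2, .and 16 3, .and 5 4, .row 8 2414, .diff 4 0, .diff 4 1,
   .and 22 2, .and 20 3, .diff 6 4, .diff 6 5, .row 4 2499, .diff 12 0, .diff 3 1, .row 1 2957, .diff 9 0,
   .row 0 3907, .diff 9 0]
  [full] 300 = true := by decide +kernel

theorem cl9 : chk [8, 0, 5] 0 2 15 7
  [.fix 1, .and 1 0, .diff 2 1, .adj 1, .and 1 0, .diff 2 1, .adj 2, .and 1 0, .diff 2 1, .and 4 2, .diff 5 3,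
   .base 0 3 1000, .diff 1 0, .img 1 3, .diff 1 0, .img 1 1865, .diff 1 0, .img 1 2071, .diff 1 0, .img 1 3211,
   .diff 1 0, .row 9 3, .and 13 0, .and 21 1, .diff 22 2, .and 4 3, .diff 5 4, .and 19 5, .diff 20 6, .and 19 7,
   .diff 20 8, .row 17 1865, .and 5 0, .diff 6 1, .diff 5 2, .diff 4 3, .diff 13 4, .diff 11 5, .and 10 6,
   .and 9 7, .row 24 2071, .diff 7 0, .diff 7 1, .diff 7 2, .diff 7 3, .and 7 4, .diff 8 5, .diff 14 6, .and 9 7,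
   .diff 10 8, .diff 10 9, .row 33 3211, .diff 10 0, .diff 10 1, .diff 10 2, .and 10 3, .diff 11 4, .diff 10 5,
   .diff 10 6, .diff 9 7, .and 9 8, .diff 15 9, .diff 13 10, .row 43 150, .diff 11 0, .diff 11 1, .diff 11 2,
   .and 10 3, .diff 11 4, .diff 11 5, .diff 11 6, .and 11 7, .diff 10 8, .diff 10 9, .and 18 10, .diff 14 11,
   .cnt 52 3, .cnt 53 1, .and 53 1, .and 14 1, .and 14 3, .cnt 57 0, .cnt 58 2, .and 14 0, .and 60 7, .and 15 2,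
   .and 15 3, .and 14 10, .and 14 5, .and 21 12, .and 18 7, .and 16 9, .row 7 868, .diff 12 0, .diff 10 1,
   .diff 9 2, .diff 9 3, .and 8 4, .and 7 5, .diff 11 6, .and 10 7, .row 1 3891, .diff 23 0, .diff 23 1,
   .diff 10 2, .diff 38 3, .diff 11 4, .diff 11 5, .diff 11 6, .diff 33 7, .diff 18 8, .diff 13 9, .diff 13 10,
   .diff 12 11, .row 4 619, .diff 11 0, .diff 11 1, .diff 11 2, .diff 11 3, .diff 11 4, .diff 11 5, .and 10 6,
   .and 10 7, .diff 10 8, .and 10 9, .row 7 1800, .diff 23 0, .diff 8 1, .diff 8 2, .diff 5 3, .diff 5 4,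
   .row 10 2566, .diff 5 0, .diff 17 1, .diff 17 2, .diff 7 3, .diff 7 4, .diff 15 5, .diff 7 6, .row 6 772,
   .diff 4 0, .diff 4 1, .and 12 2, .row 2 2007, .diff 10 0, .diff 2 1, .row 1 1178, .diff 12 0, .diff 6 1,
   .row 1 3271, .and 11 0, .row 2 79, .diff 29 0]
  [full] 1000 = true := by decide +kernel

theorem cl10 : chk [2, 4] 2 4 0 9
  [.fix 1, .and 1 0, .diff 2 1, .fix 2, .and 1 0, .diff 2 1, .fix 3, .and 1 0, .diff 2 1, .adj 1, .and 1 0,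
   .diff 2 1, .and 4 2, .adj 2, .and 2 0, .diff 3 1, .and 5 2, .adj 3, .diff 2 0, .and 4 1, .diff 5 2, .and 4 3,
   .diff 5 4, .cnt 21 0, .cnt 22 2, .and 6 0, .cnt 24 1, .and 8 0, .and 15 1, .and 8 5, .and 7 6, .and 8 4,
   .and 12 5, .and 11 9, .base 8 160 48, .img 0 160, .img 0 1295, .img 0 3722, .img 0 2597, .row 4 160, .diff 12 0,
   .diff 36 1, .diff 13 2, .and 13 3, .and 12 4, .diff 12 5, .diff 15 6, .diff 13 7, .row 12 1295, .and 8 0,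
   .diff 9 1, .diff 9 2, .diff 9 3, .diff 7 4, .diff 7 5, .diff 7 6, .and 12 7, .diff 12 8, .row 21 3722,
   .diff 8 0, .diff 7 1, .diff 7 2, .diff 7 3, .diff 7 4, .diff 6 5, .diff 15 6, .and 9 7, .row 29 2597, .diff 8 0,
   .diff 7 1, .diff 6 2, .and 6 3, .and 6 4, .diff 6 5, .row 3 3746, .diff 6 0, .diff 24 1, .diff 16 2, .and 8 3,
   .diff 16 4, .diff 6 5, .diff 9 6, .diff 9 7, .row 44 2243, .diff 8 0, .diff 5 1, .and 5 2, .and 5 3, .diff 5 4,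
   .diff 10 5, .row 4 1513, .diff 6 0, .diff 15 1, .diff 15 2, .diff 5 3, .and 5 4, .and 8 5, .row 4 1301,
   .diff 6 0, .and 12 1, .and 4 2, .and 4 3, .row 8 2011, .diff 4 0, .diff 9 1, .and 4 2, .and 4 3, .row 3 2446,
   .diff 2 0]
  [full] 48 = true := by decide +kernel

theorem cl11 : chk [3] 14 5 0 7
  [.adj 1, .and 1 0, .diff 2 1, .adj 2, .and 1 0, .diff 2 1, .and 4 2, .diff 5 3, .adj 3, .diff 3 0, .diff 2 1,
   .diff 6 2, .and 5 3, .diff 6 4, .cnt 1 78, .cnt 2 84, .cnt 3 88, .cnt 4 90, .and 8 0, .cnt 6 82, .and 9 4,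
   .and 10 4, .and 10 2, .and 11 7, .and 10 9, .cnt 12 86, .and 12 0, .base 2 40 28, .diff 3 0, .img 1 40,
   .diff 1 0, .img 1 1372, .diff 1 0, .img 1 3535, .diff 1 0, .img 1 1880, .diff 1 0, .img 1 112, .diff 1 0,
   .img 1 1690, .diff 1 0, .row 13 40, .and 23 0, .diff 21 1, .diff 17 2, .and 24 3, .diff 23 4, .diff 23 5,
   .diff 7 6, .row 19 1372, .diff 6 0, .diff 6 1, .diff 5 2, .and 5 3, .diff 5 4, .and 12 5, .and 10 6,
   .row 25 3535, .and 7 0, .diff 8 1, .diff 8 2, .diff 8 3, .diff 7 4, .and 9 5, .and 8 6, .and 8 7, .row 32 1880,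
   .diff 7 0, .diff 6 1, .diff 6 2, .and 11 3, .diff 7 4, .and 7 5, .diff 7 6, .row 38 112, .diff 7 0, .diff 15 1,
   .diff 7 2, .and 6 3, .diff 6 4, .row 2 620, .diff 12 0, .diff 8 1, .diff 12 2, .and 4 3, .diff 6 4, .row 4 2845,
   .diff 11 0, .diff 11 1, .and 6 2, .diff 6 3, .and 5 4, .and 7 5, .row 4 2355, .diff 6 0, .diff 4 1, .and 3 2,
   .row 2 278, .diff 6 0, .img 4 278, .img 0 1874, .img 0 2949, .img 0 3180, .diff 7 0]
  [full] 28 = true := by decide +kernel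

theorem cl12 : chk [5, 3] 6 8 0 16
  [.fix 1, .and 1 0, .diff 2 1, .fix 2, .and 1 0, .diff 2 1, .fix 4, .and 1 0, .diff 2 1, .adj 1, .and 1 0,
   .diff 2 1, .and 4 2, .adj 2, .and 2 0, .diff 3 1, .and 5 2, .diff 6 3, .adj 3, .diff 3 0, .diff 2 1, .diff 6 2,
   .and 5 3, .diff 6 4, .adj 4, .and 5 0, .diff 6 1, .and 6 2, .diff 7 3, .diff 7 4, .diff 6 5, .diff 8 6,
   .cnt 30 0, .cnt 31 2, .and 7 0, .cnt 33 1, .and 9 0, .and 7 4, .and 7 2, .and 7 6, .and 14 7, .and 13 7,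
   .base 1 52 32, .img 0 52, .img 0 2117, .img 0 2627, .img 0 1792, .img 0 438, .img 0 3310, .row 6 52, .diff 13 0,
   .diff 46 1, .diff 23 2, .diff 40 3, .diff 16 4, .diff 15 5, .and 21 6, .diff 22 7, .diff 19 8, .diff 17 9,
   .row 16 2117, .diff 10 0, .diff 9 1, .diff 9 2, .diff 9 3, .and 9 4, .diff 8 5, .and 8 6, .and 8 7, .and 12 8,
   .row 25 2627, .diff 9 0, .diff 9 1, .diff 8 2, .and 7 3, .diff 9 4, .diff 8 5, .and 8 6, .diff 8 7,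
   .row 33 1792, .diff 8 0, .diff 8 1, .diff 8 2, .and 7 3, .diff 7 4, .and 6 5, .diff 11 6, .diff 9 7,
   .row 41 438, .diff 8 0, .diff 8 1, .diff 8 2, .diff 7 3, .diff 6 4, .and 10 5, .diff 9 6, .row 48 3310,
   .diff 7 0, .diff 7 1, .diff 6 2, .and 6 3, .and 5 4, .diff 7 5, .row 54 1955, .diff 6 0, .diff 6 1, .diff 5 2,
   .diff 5 3, .row 8 781, .diff 4 0, .diff 108 1, .diff 59 2, .diff 6 3, .diff 49 4, .diff 22 5, .diff 12 6,
   .and 9 7, .and 9 8, .row 7 601, .diff 9 0, .diff 7 1, .row 1 2457, .diff 1 0, .diff 8 1, .diff 6 2, .row 2 1489,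
   .diff 38 0, .row 13 3457, .diff 4 0, .row 0 1769, .diff 18 0, .row 0 236, .diff 16 0]
  [full] 32 = true := by decide +kernel

theorem cl13 : chk [4, 1, 1, 3, 2, 5] 29 6 7 0
  [.fix 1, .and 1 0, .diff 2 1, .fix 4, .and 1 0, .diff 2 1, .adj 1, .and 1 0, .diff 2 1, .and 4 2, .diff 5 3,
   .adj 2, .diff 3 0, .and 5 1, .adj 3, .and 2 0, .diff 3 1, .adj 4, .and 1 0, .diff 2 1, .and 6 2, .diff 7 3,
   .and 6 4, .diff 7 5, .cnt 22 2, .and 6 0, .cnt 24 0, .and 8 0, .and 7 3, .and 6 2, .cnt 19 0, .and 21 0,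
   .cnt 4 60, .cnt 5 52, .and 12 0, .and 11 2, .and 12 2, .cnt 9 48, .and 9 0, .base 0 20 64, .img 0 20,
   .img 0 809, .img 0 2817, .img 0 1303, .row 4 20, .diff 25 0, .diff 44 1, .diff 36 2, .diff 16 3, .diff 14 4,
   .diff 13 5, .diff 21 6, .diff 26 7, .and 17 8, .diff 18 9, .row 14 809, .diff 10 0, .diff 9 1, .diff 9 2,
   .diff 9 3, .diff 9 4, .diff 9 5, .diff 9 6, .diff 8 7, .diff 10 8, .row 23 2817, .diff 9 0, .diff 9 1,
   .diff 8 2, .diff 8 3, .and 8 4, .diff 8 5, .diff 8 6, .diff 8 7, .row 31 1303, .diff 8 0, .diff 7 1, .diff 7 2,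
   .and 6 3, .diff 7 4, .and 7 5, .and 7 6, .diff 11 7, .row 39 1211, .diff 8 0, .diff 7 1, .diff 6 2, .diff 8 3,
   .diff 7 4, .diff 7 5, .row 3 1252, .diff 6 0, .diff 24 1, .diff 34 2, .diff 11 3, .diff 7 4, .diff 7 5,
   .diff 7 6, .img 11 1252, .img 0 3742, .img 0 3823, .img 0 649, .img 0 3986, .img 0 4054, .diff 8 0,
   .row 12 2805, .diff 14 0, .and 12 1, .diff 3 2, .and 11 3, .row 16 2451, .diff 4 0, .diff 26 1, .and 5 2,
   .row 1 2321, .diff 3 0, .diff 69 1, .diff 40 2, .and 8 3, .diff 5 4, .row 3 3808, .diff 5 0, .row 4 2301,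
   .diff 1 0, .row 0 2946, .and 16 0]
  [full] 64 = true := by decide +kernel

theorem cl14 : chk [2, 5, 7, 6, 6, 4] 0 5 12 6
  [.fix 1, .and 1 0, .diff 2 1, .fix 2, .and 1 0, .diff 2 1, .fix 4, .and 1 0, .diff 2 1, .adj 1, .and 1 0,
   .diff 2 1, .diff 7 2, .and 5 3, .diff 6 4, .adj 2, .and 4 0, .diff 5 1, .and 7 2, .diff 8 3, .adj 3, .diff 3 0,
   .diff 2 1, .diff 6 2, .adj 4, .and 3 0, .diff 4 1, .diff 4 2, .cnt 26 4, .cnt 27 2, .and 3 0, .and 7 2,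
   .and 13 2, .and 14 4, .and 8 5, .base 2 40 96, .img 0 40, .img 0 1139, .img 0 1867, .img 0 3529, .row 4 40,
   .diff 10 0, .diff 29 1, .diff 28 2, .and 16 3, .diff 17 4, .diff 32 5, .diff 15 6, .and 14 7, .diff 15 8,
   .diff 15 9, .row 14 1139, .diff 10 0, .diff 9 1, .diff 8 2, .diff 8 3, .diff 8 4, .diff 7 5, .diff 7 6,
   .diff 14 7, .diff 11 8, .row 23 1867, .and 9 0, .diff 9 1, .diff 9 2, .diff 9 3, .diff 9 4, .diff 9 5,
   .diff 8 6, .diff 8 7, .row 31 3529, .diff 6 0, .diff 5 1, .diff 5 2, .diff 15 3, .diff 6 4, .and 6 5,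
   .diff 14 6, .row 38 332, .diff 7 0, .diff 6 1, .diff 6 2, .diff 6 3, .and 5 4, .diff 7 5, .row 3 1248,
   .diff 22 0, .diff 7 1, .diff 22 2, .diff 16 3, .diff 9 4, .and 8 5, .diff 7 6, .diff 9 7, .row 5 1672,
   .diff 4 0, .diff 3 1, .diff 3 2, .diff 6 3, .row 3 1468, .diff 57 0, .diff 14 1, .diff 14 2, .and 13 3,
   .diff 7 4, .and 7 5, .and 7 6, .row 6 2839, .diff 5 0, .diff 4 1, .diff 4 2, .diff 4 3, .row 10 2656, .diff 4 0,
   .row 0 129, .diff 3 0]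
  [full] 96 = true := by decide +kernel

end Cfsg.Agent.H300.Ru
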