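import Cfsg.Agent.H300.Ru.Eng

set_option autoImplicit false
set_option maxRecDepth 100000
set_option exponentiation.threshold 5000

namespace Cfsg.Agent.H300.Ru

open Cfsg.Agent.SporadicB Cfsg.Agent.SporRec.TCUpperCert Cfsg.Agent.RuD.Letters

theorem cl15 : chk [3, 6, 0, 2] 0 7 22 2
  [.adj 1, .and 1 0, .diff 2 1, .adj 2, .and 1 0, .diff 2 1, .and 4 2, .diff 5 3, .adj 3, .and 3 0, .diff 4 1,
   .and 3 2, .diff 4 3, .and 8 4, .diff 9 5, .and 8 6, .diff 9 7, .adj 4, .and 7 0, .diff 6 1, .diff 5 2,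
   .diff 4 3, .and 12 4, .diff 11 5, .diff 10 6, .and 9 7, .adj 5, .and 6 0, .diff 7 1, .diff 7 2, .diff 6 3,
   .and 6 4, .and 13 5, .diff 14 6, .diff 11 7, .and 9 8, .base 0 93 20, .img 0 93, .img 0 1088, .img 0 1501,
   .img 0 2466, .img 0 2416, .row 5 93, .diff 23 0, .diff 15 1, .diff 15 2, .diff 15 3, .diff 13 4, .diff 13 5,
   .and 21 6, .and 18 7, .diff 18 8, .row 14 1088, .diff 9 0, .diff 9 1, .diff 9 2, .diff 9 3, .diff 9 4,
   .diff 9 5, .and 7 6, .diff 10 7, .diff 10 8, .row 23 1501, .diff 9 0, .diff 9 1, .diff 9 2, .and 9 3,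
   .diff 10 4, .diff 10 5, .diff 10 6, .and 9 7, .and 9 8, .diff 12 9, .row 33 2466, .diff 10 0, .diff 10 1,
   .diff 10 2, .diff 9 3, .diff 9 4, .diff 9 5, .diff 7 6, .and 14 7, .diff 11 8, .diff 11 9, .row 43 2416,
   .diff 10 0, .diff 10 1, .diff 9 2, .diff 9 3, .and 8 4, .and 7 5, .diff 7 6, .and 10 7, .row 51 3534, .diff 8 0,
   .diff 8 1, .diff 19 2, .diff 17 3, .diff 6 4, .and 9 5, .diff 9 6, .row 3 1438, .diff 7 0, .diff 7 1, .diff 7 2,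
   .and 6 3, .diff 5 4, .diff 14 5, .and 8 6, .row 5 2902, .diff 7 0, .diff 23 1, .diff 5 2, .and 5 3, .diff 5 4,
   .row 3 2317, .diff 5 0, .diff 12 1, .and 5 2, .diff 4 3, .diff 6 4, .row 3 3724, .diff 5 0, .diff 34 1,
   .row 1 2725, .and 6 0, .row 2 3363, .and 7 0]
  [full] 20 = true := by decide +kernel

theorem cl16 : chk [5, 0, 8, 2] 0 4 3 2
  [.fix 1, .and 1 0, .diff 2 1, .fix 2, .and 1 0, .diff 2 1, .fix 5, .and 1 0, .diff 2 1, .adj 1, .and 1 0,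
   .diff 2 1, .and 4 2, .adj 2, .and 2 0, .diff 3 1, .and 5 2, .diff 6 3, .adj 3, .and 3 0, .diff 4 1, .and 3 2,
   .diff 4 3, .and 8 4, .diff 9 5, .and 8 6, .adj 4, .diff 6 0, .and 5 1, .diff 6 2, .diff 5 3, .and 11 4,
   .diff 10 5, .diff 9 6, .and 8 7, .adj 5, .diff 8 0, .diff 7 1, .diff 7 2, .diff 6 3, .diff 6 4, .and 12 5,
   .diff 10 6, .base 3 26 40, .img 0 26, .img 0 2418, .img 0 2071, .row 3 26, .diff 11 0, .diff 47 1, .diff 45 2,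
   .diff 13 3, .diff 39 4, .and 14 5, .diff 13 6, .diff 12 7, .diff 21 8, .diff 15 9, .row 8 921, .diff 10 0,
   .diff 9 1, .diff 9 2, .diff 7 3, .and 7 4, .diff 7 5, .diff 7 6, .and 12 7, .row 22 2418, .diff 8 0, .diff 8 1,
   .diff 8 2, .and 8 3, .diff 7 4, .and 7 5, .and 10 6, .row 29 2071, .diff 7 0, .diff 6 1, .diff 5 2, .and 12 3,
   .diff 8 4, .diff 7 5, .diff 7 6, .row 4 2064, .diff 7 0, .diff 15 1, .diff 8 2, .diff 34 3, .diff 7 4,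
   .diff 7 5, .and 7 6, .row 5 2377, .diff 7 0, .diff 6 1, .and 5 2, .and 5 3, .and 5 4, .row 9 1223, .diff 5 0,
   .diff 5 1, .diff 4 2, .and 4 3, .row 3 2216, .diff 1 0, .row 57 1331, .diff 5 0, .diff 11 1, .diff 6 2,
   .diff 4 3, .row 3 4047, .and 30 0]
  [full] 40 = true := by decide +kernel

theorem cl17 : chk [8, 6] 14 5 0 21
  [.fix 1, .and 1 0, .diff 2 1, .fix 3, .and 1 0, .diff 2 1, .fix 4, .and 1 0, .diff 2 1, .fix 6, .and 1 0,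
   .diff 2 1, .adj 1, .and 1 0, .diff 2 1, .diff 10 2, .and 5 3, .adj 2, .diff 3 0, .and 5 1, .diff 6 2, .adj 3,
   .and 3 0, .diff 4 1, .diff 3 2, .and 5 3, .diff 6 4, .adj 4, .and 4 0, .diff 5 1, .and 5 2, .diff 6 3,
   .diff 5 4, .diff 10 5, .and 8 6, .adj 5, .diff 6 0, .diff 5 1, .diff 5 2, .and 5 3, .and 11 4, .diff 12 5,
   .diff 11 6, .adj 6, .diff 7 0, .diff 7 1, .diff 7 2, .diff 4 3, .diff 7 4, .cnt 47 0, .cnt 48 1, .and 6 0,
   .and 6 2, .cnt 51 2, .and 37 0, .and 8 5, .and 8 5, .and 22 7, .and 18 7, .and 10 5, .base 2 1515 12, .diff 3 0,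
   .img 1 1515, .diff 1 0, .img 1 2106, .diff 1 0, .img 1 2692, .diff 1 0, .img 1 2632, .diff 1 0, .img 1 3221,
   .diff 1 0, .img 1 3540, .diff 1 0, .img 1 2059, .diff 1 0, .img 1 3012, .diff 1 0, .img 1 3615, .diff 1 0,
   .img 1 2875, .diff 1 0, .row 0 3865, .diff 31 0, .diff 68 1, .diff 77 2, .diff 33 3, .diff 31 4, .and 46 5,
   .diff 32 6, .and 31 7, .diff 36 8, .and 32 9, .row 32 1515, .diff 10 0, .diff 10 1, .diff 10 2, .diff 10 3,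
   .diff 10 4, .and 9 5, .diff 8 6, .and 12 7, .diff 11 8, .diff 10 9, .row 41 2106, .diff 10 0, .diff 9 1,
   .diff 9 2, .diff 7 3, .diff 6 4, .diff 6 5, .diff 11 6, .diff 10 7, .row 4 401, .diff 8 0, .diff 8 1, .diff 8 2,
   .diff 18 3, .and 8 4, .diff 8 5, .and 7 6, .row 3 2880, .diff 7 0, .diff 27 1, .diff 8 2, .diff 8 3, .and 14 4,
   .diff 8 5, .and 7 6, .row 5 435, .diff 5 0, .diff 5 1, .row 1 1968, .diff 10 0, .diff 2 1, .and 7 2, .diff 7 3,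
   .row 3 2920, .and 1 0, .row 4 1130, .and 1 0]
  [full] 12 = true := by decide +kernel

theorem cl18 : chk [5, 3, 8, 0] 0 4 13 5
  [.fix 1, .and 1 0, .diff 2 1, .fix 3, .and 1 0, .diff 2 1, .fix 4, .diff 1 0, .fix 6, .and 1 0, .diff 2 1,
   .adj 1, .and 1 0, .diff 2 1, .and 9 2, .diff 10 3, .and 6 4, .adj 2, .and 4 0, .diff 5 1, .and 7 2, .diff 8 3,
   .adj 3, .diff 3 0, .and 2 1, .diff 3 2, .diff 7 3, .diff 6 4, .adj 4, .and 5 0, .diff 6 1, .diff 5 2, .diff 5 3,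
   .diff 5 4, .diff 9 5, .adj 5, .diff 5 0, .and 5 1, .diff 5 2, .diff 5 3, .and 10 4, .diff 11 5, .adj 6,
   .diff 6 0, .diff 4 1, .diff 7 2, .and 5 3, .cnt 45 2, .cnt 46 1, .and 5 0, .cnt 48 0, .and 36 3, .and 13 1,
   .and 8 4, .and 9 3, .and 20 4, .and 14 5, .and 10 6, .base 2 20 24, .img 0 20, .img 0 2410, .img 0 3787,
   .row 3 20, .diff 13 0, .diff 48 1, .diff 13 2, .diff 49 3, .diff 14 4, .diff 13 5, .diff 12 6, .diff 24 7,
   .and 17 8, .diff 14 9, .row 13 2410, .diff 10 0, .diff 10 1, .diff 10 2, .diff 10 3, .diff 10 4, .diff 10 5,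
   .and 10 6, .and 10 7, .diff 11 8, .diff 10 9, .and 12 10, .row 24 3787, .diff 11 0, .diff 9 1, .diff 9 2,
   .diff 9 3, .diff 7 4, .diff 7 5, .and 11 6, .row 31 2664, .diff 7 0, .diff 6 1, .diff 6 2, .and 6 3, .diff 6 4,
   .and 17 5, .and 15 6, .diff 8 7, .row 3 3368, .diff 8 0, .diff 28 1, .diff 28 2, .diff 18 3, .diff 5 4,
   .and 8 5, .row 4 1073, .diff 6 0, .diff 15 1, .diff 15 2, .diff 5 3, .and 16 4, .diff 14 5, .row 9 1249,
   .diff 6 0, .diff 4 1, .diff 3 2, .row 7 1181, .diff 15 0, .diff 3 1, .diff 14 2, .row 2 3686, .diff 7 0,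
   .diff 14 1, .and 3 2, .diff 13 3, .row 3 186, .and 7 0, .row 4 334, .diff 1 0]
  [full] 24 = true := by decide +kernel

theorem cl19 : chk [7, 1, 2] 3 2 22 0
  [.fix 1, .diff 1 0, .adj 1, .and 1 0, .diff 2 1, .adj 2, .and 1 0, .diff 2 1, .and 4 2, .diff 5 3, .adj 3,
   .diff 3 0, .and 2 1, .diff 3 2, .and 7 3, .diff 8 4, .diff 7 5, .adj 4, .and 6 0, .diff 7 1, .diff 6 2,
   .diff 5 3, .and 5 4, .diff 6 5, .diff 11 6, .and 10 7, .adj 5, .diff 7 0, .diff 7 1, .and 7 2, .diff 8 3,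
   .diff 7 4, .diff 7 5, .and 14 6, .and 11 7, .diff 9 8, .adj 6, .diff 9 0, .diff 9 1, .diff 8 2, .and 4 3,
   .diff 5 4, .and 12 5, .diff 9 6, .base 11 50 52, .img 0 50, .img 0 1125, .img 0 2342, .img 0 3804, .row 4 50,
   .diff 12 0, .diff 12 1, .diff 12 2, .diff 21 3, .and 12 4, .diff 11 5, .diff 21 6, .diff 16 7, .diff 15 8,
   .row 13 1125, .diff 9 0, .diff 9 1, .diff 9 2, .diff 9 3, .and 8 4, .diff 8 5, .and 8 6, .and 8 7, .diff 13 8,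
   .row 22 2342, .diff 9 0, .diff 9 1, .diff 9 2, .diff 9 3, .diff 8 4, .diff 6 5, .and 11 6, .and 10 7,
   .diff 10 8, .row 31 3804, .diff 9 0, .diff 9 1, .diff 9 2, .diff 9 3, .diff 9 4, .diff 9 5, .diff 7 6,
   .diff 10 7, .and 10 8, .row 4 632, .diff 9 0, .diff 9 1, .diff 6 2, .diff 6 3, .diff 5 4, .row 46 2835,
   .diff 5 0, .diff 5 1, .diff 14 2, .diff 6 3, .and 6 4, .and 13 5, .row 4 1390, .diff 6 0, .diff 21 1, .diff 6 2,
   .diff 6 3, .diff 6 4, .and 6 5, .row 4 1664, .and 2 0, .row 5 3122, .diff 8 0, .and 6 1, .and 5 2, .row 2 1812,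
   .and 5 0]
  [full] 52 = true := by decide +kernel

theorem cl20 : chk [0, 3] 0 15 24 6
  [.adj 1, .and 1 0, .diff 2 1, .adj 2, .and 1 0, .diff 2 1, .and 4 2, .diff 5 3, .adj 3, .and 3 0, .diff 4 1,
   .and 3 2, .diff 4 3, .diff 8 4, .and 7 5, .diff 8 6, .adj 4, .diff 6 0, .diff 5 1, .and 5 2, .diff 6 3,
   .diff 5 4, .diff 12 5, .diff 11 6, .diff 9 7, .adj 5, .and 8 0, .diff 9 1, .diff 9 2, .and 8 3, .diff 9 4,
   .diff 9 5, .and 9 6, .and 9 7, .diff 10 8, .diff 10 9, .and 16 10, .adj 6, .diff 10 0, .diff 10 1, .diff 8 2,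
   .and 14 3, .diff 12 4, .diff 10 5, .and 10 6, .and 8 7, .adj 7, .diff 8 0, .and 8 1, .diff 9 2, .diff 14 3,
   .diff 8 4, .base 11 13 28, .diff 12 0, .img 1 13, .diff 1 0, .img 1 3144, .diff 1 0, .img 1 2122, .diff 1 0,
   .img 1 3229, .diff 1 0, .img 1 342, .diff 1 0, .img 1 2945, .diff 1 0, .img 1 2286, .diff 1 0, .img 1 2389,
   .diff 1 0, .img 1 3657, .diff 1 0, .img 1 1157, .diff 1 0, .img 1 2535, .diff 1 0, .img 1 1248, .diff 1 0,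
   .img 1 2407, .diff 1 0, .row 27 13, .diff 33 0, .diff 32 1, .diff 52 2, .diff 4 3, .diff 50 4, .diff 35 5,
   .diff 35 6, .diff 44 7, .and 47 8, .diff 45 9, .diff 45 10, .and 43 11, .row 38 3144, .diff 12 0, .diff 12 1,
   .diff 12 2, .diff 11 3, .diff 11 4, .and 11 5, .diff 11 6, .diff 10 7, .diff 10 8, .diff 13 9, .diff 11 10,
   .row 48 2122, .diff 11 0, .diff 11 1, .diff 11 2, .diff 24 3, .diff 9 4, .and 9 5, .diff 8 6, .and 8 7,
   .and 14 8, .row 5 3620, .diff 9 0, .diff 9 1, .diff 9 2, .diff 21 3, .diff 9 4, .diff 18 5, .diff 9 6, .and 9 7,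
   .diff 9 8, .row 3 786, .diff 9 0, .diff 9 1, .diff 29 2, .diff 8 3, .diff 7 4, .and 19 5, .and 7 6, .diff 9 7,
   .row 4 347, .diff 8 0, .diff 8 1, .diff 8 2, .diff 7 3, .and 5 4, .diff 7 5, .row 3 1794, .diff 6 0, .diff 6 1,
   .diff 25 2, .diff 25 3, .diff 7 4, .row 2 3662, .diff 5 0, .and 9 1, .row 4 1927, .diff 7 0, .row 0 3260,
   .diff 4 0, .row 0 3477, .diff 8 0]
  [full] 28 = true := by decide +kernel

end Cfsg.Agent.H300.Ru
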