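import Cfsg.Agent.H300.Ru.Eng

set_option autoImplicit false
set_option maxRecDepth 100000
set_option exponentiation.threshold 5000

namespace Cfsg.Agent.H300.Ru

open Cfsg.Agent.SporadicB Cfsg.Agent.SporRec.TCUpperCert Cfsg.Agent.RuD.Letters

theorem cl21 : chk [6, 2, 4, 3] 16 0 4 11
  [.fix 5, .and 1 0, .diff 2 1, .adj 1, .and 1 0, .diff 2 1, .adj 2, .and 1 0, .diff 2 1, .and 4 2, .diff 5 3,
   .adj 3, .and 3 0, .diff 4 1, .and 3 2, .diff 4 3, .and 8 4, .diff 9 5, .and 8 6, .diff 9 7, .adj 4, .diff 7 0,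
   .and 6 1, .diff 7 2, .and 6 3, .diff 7 4, .diff 6 5, .and 14 6, .diff 13 7, .and 12 8, .and 11 9, .adj 5,
   .diff 10 0, .diff 9 1, .diff 8 2, .diff 8 3, .and 7 4, .diff 8 5, .diff 15 6, .diff 14 7, .diff 12 8,
   .diff 11 9, .diff 11 10, .adj 6, .diff 11 0, .diff 11 1, .diff 11 2, .and 11 3, .diff 12 4, .and 10 5,
   .and 10 6, .diff 8 7, .adj 7, .diff 8 0, .diff 8 1, .diff 8 2, .diff 18 3, .diff 16 4, .and 21 5, .cnt 57 4,
   .and 11 0, .cnt 59 3, .and 20 0, .and 15 1, .and 14 4, .cnt 4 10, .cnt 5 14, .and 13 0, .and 13 2, .and 13 2,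
   .cnt 9 12, .and 19 0, .and 7 1, .cnt 4 12, .and 6 0, .tri 3 1 4 281, .base 0 154 15, .diff 1 0, .img 1 154,
   .diff 1 0, .img 1 871, .diff 1 0, .img 1 3134, .diff 1 0, .img 1 665, .diff 1 0, .img 1 205, .diff 1 0,
   .img 1 2415, .diff 1 0, .img 1 2540, .diff 1 0, .img 1 3782, .diff 1 0, .img 1 2958, .diff 1 0, .img 1 513,
   .diff 1 0, .img 1 3418, .diff 1 0, .img 1 969, .diff 1 0, .img 1 2348, .diff 1 0, .row 0 3880, .diff 30 0,
   .diff 36 1, .diff 46 2, .diff 51 3, .diff 51 4, .diff 47 5, .diff 47 6, .diff 61 7, .diff 54 8, .diff 41 9,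
   .row 38 154, .diff 10 0, .diff 10 1, .diff 10 2, .diff 10 3, .diff 10 4, .diff 10 5, .diff 10 6, .diff 10 7,
   .and 10 8, .and 10 9, .row 47 871, .diff 10 0, .diff 10 1, .diff 10 2, .diff 10 3, .diff 10 4, .diff 10 5,
   .and 10 6, .and 10 7, .diff 10 8, .and 10 9, .row 5 3491, .diff 10 0, .diff 10 1, .diff 10 2, .diff 8 3,
   .and 6 4, .and 9 5, .and 9 6, .and 8 7, .row 4 4026, .diff 8 0, .diff 8 1, .diff 18 2, .diff 6 3, .and 6 4,
   .row 2 3458, .diff 5 0, .diff 5 1, .row 1 1415, .diff 1 0, .diff 5 1, .row 1 220, .diff 18 0, .row 0 2175,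
   .and 18 0]
  [full] 15 = true := by decide +kernel

theorem cl22 : chk [7, 0, 5, 1] 9 0 1 12
  [.fix 1, .diff 1 0, .fix 2, .and 1 0, .diff 2 1, .fix 8, .diff 1 0, .adj 1, .and 1 0, .diff 2 1, .adj 2,
   .and 1 0, .diff 2 1, .and 4 2, .diff 5 3, .adj 3, .and 3 0, .diff 4 1, .diff 3 2, .and 7 3, .and 6 4, .diff 7 5,
   .adj 4, .diff 5 0, .diff 5 1, .diff 3 2, .and 9 3, .and 7 4, .diff 8 5, .diff 8 6, .adj 5, .diff 7 0, .diff 7 1,
   .diff 7 2, .diff 5 3, .diff 5 4, .and 9 5, .diff 9 6, .adj 6, .diff 7 0, .diff 7 1, .diff 7 2, .diff 7 3,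
   .diff 7 4, .and 7 5, .adj 7, .diff 6 0, .diff 5 1, .diff 5 2, .diff 11 3, .adj 8, .and 4 0, .diff 5 1,
   .base 12 199 16, .diff 13 0, .img 1 199, .diff 1 0, .img 1 503, .diff 1 0, .img 1 3966, .diff 1 0, .img 1 352,
   .diff 1 0, .img 1 2565, .diff 1 0, .img 1 3018, .diff 1 0, .img 1 2130, .diff 1 0, .img 1 3054, .diff 1 0,
   .img 1 3778, .diff 1 0, .img 1 3532, .diff 1 0, .img 1 1607, .diff 1 0, .img 1 1728, .diff 1 0, .img 1 1438,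
   .diff 1 0, .img 1 743, .diff 1 0, .row 0 1124, .diff 31 0, .diff 37 1, .diff 37 2, .diff 43 3, .diff 38 4,
   .and 44 5, .diff 38 6, .row 37 199, .diff 7 0, .diff 7 1, .diff 7 2, .diff 7 3, .diff 7 4, .diff 6 5, .and 8 6,
   .row 43 503, .diff 7 0, .diff 7 1, .diff 7 2, .diff 7 3, .and 7 4, .diff 7 5, .and 7 6, .diff 8 7, .row 6 2160,
   .diff 8 0, .diff 7 1, .diff 7 2, .and 6 3, .and 5 4, .and 9 5, .diff 8 6, .row 5 2391, .diff 7 0, .diff 2 1,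
   .diff 6 2, .diff 6 3, .and 6 4, .row 10 1909, .diff 119 0, .diff 4 1, .diff 4 2, .row 2 2876, .diff 9 0,
   .row 0 3548, .and 4 0, .and 4 1]
  [full] 16 = true := by decide +kernel

theorem cl23 : chk [7, 7, 5] 5 0 74 9
  [.fix 2, .and 1 0, .diff 2 1, .fix 4, .and 1 0, .diff 2 1, .fix 5, .diff 1 0, .fix 10, .and 1 0, .diff 2 1,
   .adj 1, .and 1 0, .diff 2 1, .and 4 2, .adj 2, .and 2 0, .diff 3 1, .and 5 2, .diff 6 3, .adj 3, .and 3 0,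
   .diff 4 1, .diff 3 2, .and 7 3, .and 6 4, .diff 7 5, .adj 4, .and 5 0, .diff 6 1, .diff 6 2, .diff 4 3,
   .diff 10 4, .diff 8 5, .diff 8 6, .adj 5, .diff 6 0, .diff 6 1, .diff 6 2, .diff 6 3, .diff 6 4, .diff 6 5,
   .adj 6, .diff 6 0, .diff 6 1, .diff 6 2, .diff 6 3, .and 6 4, .diff 6 5, .and 20 6, .adj 7, .diff 7 0,
   .diff 7 1, .diff 6 2, .diff 5 3, .diff 7 4, .and 6 5, .diff 7 6, .adj 8, .diff 2 0, .adj 9, .diff 9 0,
   .diff 8 1, .diff 8 2, .diff 4 3, .adj 10, .diff 3 0, .diff 2 1, .base 22 156 20, .diff 23 0, .img 1 156,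
   .diff 1 0, .img 1 1585, .diff 1 0, .img 1 881, .diff 1 0, .img 1 3948, .diff 1 0, .img 1 2451, .diff 1 0,
   .img 1 2818, .diff 1 0, .img 1 973, .diff 1 0, .img 1 4034, .diff 1 0, .img 1 3968, .diff 1 0, .img 1 580,
   .diff 1 0, .img 1 228, .diff 1 0, .img 1 730, .diff 1 0, .img 1 328, .diff 1 0, .img 1 3201, .diff 1 0,
   .img 1 524, .diff 1 0, .img 1 1127, .diff 1 0, .img 1 540, .diff 1 0, .img 1 1184, .diff 1 0, .row 0 2626,
   .diff 45 0, .diff 106 1, .diff 104 2, .diff 57 3, .diff 96 4, .diff 45 5, .diff 49 6, .and 58 7, .and 57 8,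
   .and 48 9, .row 8 1623, .diff 10 0, .diff 9 1, .diff 7 2, .diff 4 3, .row 53 156, .diff 4 0, .diff 4 1,
   .diff 14 2, .diff 14 3, .diff 6 4, .diff 14 5, .diff 14 6, .diff 14 7, .and 9 8, .row 7 2200, .diff 9 0,
   .diff 8 1, .diff 8 2, .diff 7 3, .diff 7 4, .diff 7 5, .and 7 6, .row 4 299, .diff 7 0, .diff 14 1, .diff 6 2,
   .diff 6 3, .row 2 2979, .diff 4 0, .diff 12 1, .diff 4 2, .and 4 3, .and 11 4, .and 11 5, .row 5 4051,
   .diff 4 0, .diff 4 1, .and 4 2, .row 2 766, .diff 9 0, .and 3 1, .row 1 11, .and 1 0]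
  [full] 20 = true := by decide +kernel

theorem cl24 : chk [3, 6, 2, 5, 1] 5 4 8 0
  [.fix 1, .and 1 0, .diff 2 1, .fix 4, .and 1 0, .diff 2 1, .fix 5, .and 1 0, .diff 2 1, .fix 10, .diff 1 0,
   .adj 1, .and 1 0, .diff 2 1, .and 6 2, .diff 7 3, .adj 2, .and 3 0, .diff 4 1, .and 6 2, .diff 7 3, .adj 3,
   .diff 3 0, .and 2 1, .diff 3 2, .and 7 3, .diff 8 4, .and 7 5, .diff 8 6, .adj 4, .diff 7 0, .diff 6 1,
   .diff 5 2, .diff 4 3, .and 10 4, .and 9 5, .diff 8 6, .adj 5, .diff 7 0, .diff 7 1, .diff 7 2, .diff 7 3,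
   .and 5 4, .diff 7 5, .adj 6, .diff 6 0, .diff 6 1, .diff 6 2, .diff 6 3, .diff 5 4, .diff 7 5, .adj 7,
   .diff 6 0, .diff 6 1, .diff 5 2, .diff 20 3, .adj 8, .diff 9 0, .and 2 1, .diff 3 2, .diff 10 3, .adj 9,
   .diff 9 0, .diff 5 1, .diff 4 2, .and 4 3, .adj 10, .diff 13 0, .cnt 63 8, .and 53 0, .tri 15 1 9 217,
   .base 0 52 20, .diff 1 0, .img 1 52, .diff 1 0, .img 1 2337, .diff 1 0, .img 1 1526, .diff 1 0, .img 1 1605,
   .diff 1 0, .img 1 1453, .diff 1 0, .img 1 3231, .diff 1 0, .img 1 3667, .diff 1 0, .img 1 1759, .diff 1 0,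
   .img 1 1387, .diff 1 0, .img 1 2820, .diff 1 0, .img 1 57, .diff 1 0, .img 1 2664, .diff 1 0, .img 1 211,
   .diff 1 0, .img 1 2311, .diff 1 0, .img 1 4034, .diff 1 0, .img 1 65, .diff 1 0, .img 1 318, .diff 1 0,
   .img 1 2221, .diff 1 0, .row 0 3090, .diff 47 0, .diff 109 1, .diff 107 2, .diff 45 3, .diff 99 4, .diff 51 5,
   .and 51 6, .and 66 7, .and 59 8, .diff 53 9, .diff 50 10, .row 9 2821, .diff 11 0, .diff 10 1, .diff 10 2,
   .diff 9 3, .and 6 4, .and 8 5, .row 56 52, .diff 6 0, .diff 6 1, .diff 6 2, .diff 17 3, .diff 7 4, .diff 13 5,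
   .diff 18 6, .diff 18 7, .and 10 8, .diff 10 9, .row 4 20, .diff 10 0, .diff 9 1, .diff 8 2, .diff 7 3, .and 7 4,
   .diff 7 5, .row 4 3386, .diff 6 0, .diff 17 1, .diff 16 2, .diff 6 3, .diff 12 4, .diff 7 5, .row 4 699,
   .diff 6 0, .diff 12 1, .diff 5 2, .and 4 3, .row 8 103, .diff 2 0, .diff 8 1, .diff 15 2, .row 6 2021,
   .diff 8 0, .row 0 2204, .diff 5 0]
  [full] 20 = true := by decide +kernel

end Cfsg.Agent.H300.Ru
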