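import Cfsg.Agent.H300.Ru.Eng

set_option autoImplicit false
set_option maxRecDepth 100000
set_option exponentiation.threshold 5000

namespace Cfsg.Agent.H300.Ru

open Cfsg.Agent.SporadicB Cfsg.Agent.SporRec.TCUpperCert Cfsg.Agent.RuD.Letters

theorem cl25 : chk [3, 3, 6, 5, 6] 15 2 9 0
  [.fix 2, .and 1 0, .diff 2 1, .fix 3, .and 1 0, .diff 2 1, .fix 6, .and 1 0, .diff 2 1, .fix 8, .diff 1 0,
   .fix 12, .diff 1 0, .adj 1, .and 1 0, .diff 2 1, .diff 8 2, .adj 2, .and 2 0, .diff 3 1, .and 3 2, .diff 4 3,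
   .and 7 4, .diff 8 5, .adj 3, .diff 5 0, .diff 2 1, .and 8 2, .diff 9 3, .and 6 4, .adj 4, .and 5 0, .diff 6 1,
   .and 6 2, .diff 7 3, .and 6 4, .and 8 5, .diff 7 6, .adj 5, .diff 6 0, .diff 5 1, .diff 9 2, .diff 8 3,
   .diff 7 4, .and 7 5, .adj 6, .diff 6 0, .diff 6 1, .and 6 2, .diff 7 3, .diff 7 4, .diff 6 5, .adj 7, .and 6 0,
   .diff 7 1, .diff 17 2, .diff 6 3, .diff 6 4, .adj 8, .and 4 0, .diff 12 1, .adj 9, .diff 1 0, .diff 5 1,
   .and 10 2, .adj 12, .diff 3 0, .base 11 177 24, .diff 12 0, .img 1 177, .diff 1 0, .img 1 213, .diff 1 0,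
   .img 1 1714, .diff 1 0, .img 1 2689, .diff 1 0, .img 1 731, .diff 1 0, .img 1 3195, .diff 1 0, .img 1 2287,
   .diff 1 0, .img 1 1482, .diff 1 0, .img 1 3108, .diff 1 0, .img 1 2198, .diff 1 0, .img 1 934, .diff 1 0,
   .img 1 1391, .diff 1 0, .img 1 2004, .diff 1 0, .img 1 3139, .diff 1 0, .img 1 2621, .diff 1 0, .img 1 3047,
   .diff 1 0, .img 1 1797, .diff 1 0, .img 1 3670, .diff 1 0, .img 1 2080, .diff 1 0, .img 1 3296, .diff 1 0,
   .img 1 1573, .diff 1 0, .img 1 3898, .diff 1 0, .row 0 1275, .diff 109 0, .diff 48 1, .diff 95 2, .diff 60 3,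
   .and 54 4, .diff 75 5, .diff 68 6, .diff 72 7, .and 62 8, .and 58 9, .row 56 177, .diff 10 0, .diff 10 1,
   .diff 9 2, .and 8 3, .diff 8 4, .diff 8 5, .diff 12 6, .and 9 7, .diff 9 8, .row 64 213, .diff 8 0, .diff 8 1,
   .diff 7 2, .diff 7 3, .and 5 4, .and 11 5, .and 8 6, .row 3 1642, .diff 7 0, .diff 7 1, .diff 7 2, .diff 14 3,
   .and 7 4, .diff 7 5, .and 7 6, .row 4 1209, .diff 25 0, .diff 130 1, .diff 36 2, .diff 9 3, .diff 8 4,
   .diff 7 5, .and 7 6, .row 6 2954, .diff 6 0, .diff 16 1, .diff 6 2, .diff 5 3, .diff 15 4, .row 10 2047,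
   .diff 163 0, .diff 5 1, .diff 3 2, .and 10 3, .row 3 3376, .diff 3 0, .row 0 172, .diff 12 0, .diff 11 1,
   .row 1 1730, .and 7 0, .row 2 2685, .diff 21 0]
  [full] 24 = true := by decide +kernel

theorem cl26 : chk [3, 5, 0] 0 14 2 3
  [.fix 2, .and 1 0, .diff 2 1, .adj 1, .and 1 0, .diff 2 1, .adj 2, .and 1 0, .diff 2 1, .and 4 2, .diff 5 3,
   .adj 3, .and 3 0, .diff 4 1, .diff 3 2, .and 7 3, .diff 8 4, .and 7 5, .diff 8 6, .adj 4, .and 6 0, .diff 6 1,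
   .diff 5 2, .diff 4 3, .and 11 4, .diff 12 5, .diff 8 6, .adj 5, .diff 6 0, .and 6 1, .and 14 2, .and 10 3,
   .and 7 4, .adj 6, .diff 8 0, .and 8 1, .and 6 2, .diff 6 3, .adj 7, .diff 6 0, .adj 9, .diff 5 0,
   .base 13 70 52, .diff 14 0, .img 1 70, .diff 1 0, .img 1 1660, .diff 1 0, .img 1 1282, .diff 1 0, .img 1 3436,
   .diff 1 0, .img 1 3638, .diff 1 0, .img 1 1960, .diff 1 0, .img 1 3780, .diff 1 0, .img 1 1060, .diff 1 0,
   .img 1 3444, .diff 1 0, .img 1 1482, .diff 1 0, .img 1 1146, .diff 1 0, .img 1 626, .diff 1 0, .img 1 876,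
   .diff 1 0, .img 1 255, .diff 1 0, .img 1 2428, .diff 1 0, .img 1 3484, .diff 1 0, .img 1 165, .diff 1 0,
   .img 1 1366, .diff 1 0, .img 1 2581, .diff 1 0, .img 1 193, .diff 1 0, .img 1 3398, .diff 1 0, .img 1 3154,
   .diff 1 0, .img 1 3563, .diff 1 0, .img 1 3749, .diff 1 0, .img 1 3693, .diff 1 0, .row 51 70, .diff 93 0,
   .diff 2 1, .diff 73 2, .diff 63 3, .diff 61 4, .diff 68 5, .diff 61 6, .diff 60 7, .diff 66 8, .row 59 1660,
   .diff 9 0, .diff 9 1, .diff 9 2, .diff 9 3, .and 9 4, .diff 9 5, .diff 9 6, .diff 9 7, .diff 9 8, .row 67 1282,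
   .diff 8 0, .diff 8 1, .diff 8 2, .diff 7 3, .diff 7 4, .diff 7 5, .diff 7 6, .diff 12 7, .row 7 1572,
   .diff 18 0, .diff 8 1, .diff 8 2, .diff 8 3, .diff 8 4, .diff 7 5, .diff 7 6, .row 6 2099, .and 6 0, .diff 6 1,
   .diff 6 2, .diff 5 3, .row 1 3139, .diff 3 0, .diff 17 1, .diff 3 2, .diff 9 3, .img 6 3139, .img 0 612,
   .img 0 3676, .img 0 3266, .img 0 615, .img 0 2607, .img 0 3701, .img 0 2900, .img 0 3048, .img 0 3467,
   .img 0 939, .img 0 1957, .img 0 162, .img 0 717, .img 0 575, .img 0 3460, .img 0 1274, .img 0 2395, .img 0 25,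
   .row 21 2372, .diff 23 0, .diff 33 1, .and 22 2, .and 31 3, .row 2 1621, .diff 4 0, .and 3 1, .row 119 3436,
   .diff 2 0, .and 5 1, .and 3 2, .row 2 4009, .and 33 0]
  [full] 52 = true := by decide +kernel

theorem cl27 : chk [3, 2, 7, 0, 5] 0 29 20 23
  [.adj 1, .and 1 0, .diff 2 1, .adj 2, .and 1 0, .diff 2 1, .and 4 2, .diff 5 3, .adj 3, .and 3 0, .diff 4 1,
   .diff 3 2, .diff 7 3, .diff 6 4, .adj 4, .diff 4 0, .and 4 1, .diff 5 2, .diff 5 3, .diff 5 4, .and 10 5,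
   .diff 11 6, .adj 5, .and 7 0, .diff 6 1, .diff 6 2, .diff 6 3, .and 5 4, .diff 11 5, .diff 8 6, .adj 6,
   .diff 6 0, .diff 6 1, .diff 6 2, .diff 5 3, .diff 7 4, .adj 7, .diff 3 0, .adj 8, .diff 6 0, .and 16 1, .adj 9,
   .diff 4 0, .tri 11 7 15 281, .diff 12 0, .base 1 140 29, .diff 2 0, .img 1 140, .diff 1 0, .img 1 3265,
   .diff 1 0, .img 1 2493, .diff 1 0, .img 1 3651, .diff 1 0, .img 1 780, .diff 1 0, .img 1 670, .diff 1 0,
   .img 1 1216, .diff 1 0, .img 1 1194, .diff 1 0, .img 1 2020, .diff 1 0, .img 1 3760, .diff 1 0, .img 1 1014,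
   .diff 1 0, .img 1 1645, .diff 1 0, .img 1 3968, .diff 1 0, .img 1 2424, .diff 1 0, .img 1 1209, .diff 1 0,
   .img 1 3052, .diff 1 0, .img 1 1829, .diff 1 0, .img 1 2103, .diff 1 0, .img 1 2358, .diff 1 0, .img 1 3693,
   .diff 1 0, .img 1 3821, .diff 1 0, .img 1 2097, .diff 1 0, .img 1 1800, .diff 1 0, .img 1 3527, .diff 1 0,
   .img 1 2843, .diff 1 0, .img 1 2900, .diff 1 0, .img 1 2681, .diff 1 0, .row 0 2865, .diff 57 0, .diff 63 1,
   .diff 61 2, .diff 70 3, .diff 76 4, .and 71 5, .and 67 6, .row 63 140, .diff 7 0, .diff 7 1, .diff 7 2,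
   .and 7 3, .diff 7 4, .and 7 5, .and 7 6, .row 69 3265, .diff 7 0, .diff 7 1, .diff 7 2, .diff 6 3, .and 8 4,
   .diff 7 5, .and 7 6, .row 75 2493, .diff 7 0, .diff 7 1, .diff 7 2, .diff 7 3, .diff 6 4, .diff 8 5,
   .row 2 2072, .diff 6 0, .diff 6 1, .diff 6 2, .and 4 3, .and 12 4, .row 3 3280, .diff 5 0, .diff 4 1,
   .diff 10 2, .diff 4 3, .row 3 2799, .diff 3 0, .diff 3 1, .img 1 4017, .img 0 388, .img 0 408, .img 0 756,
   .img 0 3503, .img 0 3700, .img 0 3152, .img 0 3957, .img 0 3863, .img 0 3401, .img 0 2932, .img 0 1101,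
   .img 0 1228, .img 0 482, .img 0 1922, .img 0 943, .img 0 3861, .img 0 1299, .img 0 3425, .img 0 1956]
  [full] 29 = true := by decide +kernel

end Cfsg.Agent.H300.Ru
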