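import Cfsg.Agent.H300.Ru.Inv

/-!
# Checks of the class invariants (helper300)
-/

set_option autoImplicit false
set_option maxRecDepth 100000
set_option exponentiation.threshold 5000

namespace Cfsg.Agent.H300.Ru

open Cfsg.Agent.Lib Cfsg.Agent.Lib.BitNet Cfsg.Agent.SporadicB

/-- data of a family: word, order, centralizer order, numbers of fixed points of the powers, `a1`, `sw`, `o1` -/
structure Fm where
  w : List ℕ
  n : ℕ
  c : ℕ
  F : List (ℕ × ℕ)
  A : ℕ
  S : ℕ
  O : ℕ

/-- check of a family -/
noncomputable def chkF (w : List ℕ) (n O : ℕ) (F : List (ℕ × ℕ)) : Bool :=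
  BitNetSimple.force (tbl w) fun T => Bool.rec false (Bool.rec false
    (F.all fun p => Nat.beq (popc 12 (fixL T p.1)) p.2) (Nat.beq (o1K T) O)) (chkO T n)

/-- check of a representative -/
noncomputable def chkR (w : List ℕ) (k J A S : ℕ) : Bool :=
  BitNetSimple.force (tbl w) fun T0 => BitNetSimple.force (tbp T0 k) fun T =>
    BitNetSimple.force (adjL T 1) fun m => Bool.rec false (Bool.rec false
    (Nat.beq (popc 12 (Nat.land m (adjL T 3))) J) (Nat.beq (popc 12 (Nat.land m (fixL T 2))) S)) (Nat.beq (popc 12 m) A)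

/-- the eighth invariant of a power of a word -/
noncomputable def iiW (w : List ℕ) (k : ℕ) : ℕ :=
  BitNetSimple.force (tbl w) fun T0 => BitNetSimple.force (tbp T0 k) fun T => popc 12 (iiM T)

end Cfsg.Agent.H300.Ru
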