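import Cfsg.Agent.H300.Ru.Tables
import Cfsg.Agent.H300.Cls.Complete

/-!
# The conjugacy classes of the Rudvalis group (helper300)

* `cover` : every element of `RuOrder.H` is conjugate to one of the 36 elements `R j` (powers of short words).
* `card_cls`, `card_centralizer` : the sizes of the classes and the centralizers.
* `fam` : the family (class of cyclic subgroups) of an element; `fam_pow` : power maps.
-/

set_option autoImplicit false
set_option maxRecDepth 100000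
set_option exponentiation.threshold 5000

namespace Cfsg.Agent.H300.Ru

open Cfsg.Agent.Lib Cfsg.Agent.Lib.BitNet Cfsg.Agent.SporadicB Cfsg.Agent.SporadicB.RuData Cfsg.Agent.SporadicB.RuOrder
open Cfsg.Agent.RuD.Data Cfsg.Agent.SporRec.TCUpperCert Cfsg.Agent.SporRec.R3.Kernel Cfsg.Agent.RuD.Letters
open Cfsg.Agent.KFacts.Ru.CentEng Finset

theorem order_conj {G : Type*} [Group G] {x y : G} (h : IsConj x y) : orderOf x = orderOf y := by
  obtain ⟨c, rfl⟩ := isConj_iff.1 h
  exact (orderOf_injective (MulAut.conj c).toMonoidHom (MulAut.conj c).injective x).symm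

def rp (j : Fin 36) : Rp := RL.getD j ⟨0, 1, 0⟩

/-- the representatives -/
noncomputable def R (j : Fin 36) : H := X (rp j).i ^ (rp j).k

theorem rp_mem (j : Fin 36) : rp j ∈ RL := by
  have h : (j : ℕ) < RL.length := j.2
  rw [rp, List.getD_eq_getElem _ _ h]
  exact List.getElem_mem h

theorem fm_mem {i : ℕ} (h : i < 28) : fm i ∈ FL := by
  have h : i < FL.length := h
  rw [fm, List.getD_eq_getElem _ _ h]
  exact List.getElem_mem h

theorem hX {i : ℕ} (hi : i < 28) : PF (fm i) := FL_ok _ (fm_mem hi)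

theorem order_X {i : ℕ} (hi : i < 28) : orderOf (X i) = (fm i).n := (hX hi).1

theorem rp_lt : ∀ j : Fin 36, (rp j).i < 28 := by decide +kernel

theorem cop : ∀ j : Fin 36, Nat.Coprime (fm (rp j).i).n (rp j).k := by decide +kernel

theorem order_R (j : Fin 36) : orderOf (R j) = (fm (rp j).i).n := by
  have h := order_X (rp_lt j)
  rw [R, Nat.Coprime.orderOf_pow, h]
  rw [h]
  exact cop j

theorem cent_R (j : Fin 36) : Nat.card (Subgroup.centralizer ({R j} : Set H)) ≤ (fm (rp j).i).c := by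
  rw [R, Cls.centralizer_pow]
  · exact (hX (rp_lt j)).2.2.2
  · rw [order_X (rp_lt j)]
    exact cop j

theorem sep : ∀ i j : Fin 36, (fm (rp i).i).n = (fm (rp j).i).n → (rp i).J = (rp j).J →
    i = j ∨ (i = 24 ∧ j = 25) ∨ (i = 25 ∧ j = 24) := by decide +kernel

theorem nonconj (i j : Fin 36) (h : IsConj (R i) (R j)) : i = j := by
  have h1 : (fm (rp i).i).n = (fm (rp j).i).n := by
    rw [← order_R, ← order_R]
    exact order_conj h
  have h2 : (rp i).J = (rp j).J := by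
    rw [← (RL_ok _ (rp_mem i)).2.1, ← (RL_ok _ (rp_mem j)).2.1]
    exact j13_conj h
  rcases sep i j h1 h2 with h3 | ⟨rfl, rfl⟩ | ⟨rfl, rfl⟩
  · exact h3
  · have h3 := ii_conj h
    have h4 : ii (R 24) = 24 := ii1
    have h5 : ii (R 25) = 8 := ii3
    rw [h4, h5] at h3
    exact absurd h3 (by norm_num)
  · have h3 := ii_conj h
    have h4 : ii (R 24) = 24 := ii1
    have h5 : ii (R 25) = 8 := ii3
    rw [h4, h5] at h3
    exact absurd h3 (by norm_num)

theorem main : (∀ g, ∃ i, IsConj (R i) g) ∧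
    ∀ i, Nat.card {u : H // IsConj (R i) u} = Nat.card H / (fm (rp i).i).c := by
  refine Cls.complete R (fun i => (fm (rp i).i).c) cent_R nonconj ?_
  rw [card_H]
  decide +kernel

/-- **the list of the classes is complete** -/
theorem cover (g : H) : ∃ i, IsConj (R i) g := main.1 g

theorem card_cls (i : Fin 36) : Nat.card {u : H // IsConj (R i) u} = 145926144000 / (fm (rp i).i).c := by
  rw [main.2 i, card_H]

theorem dvd_card : ∀ i : Fin 36, (fm (rp i).i).c ∣ 145926144000 := by decide +kernel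

theorem card_centralizer (i : Fin 36) : Nat.card (Subgroup.centralizer ({R i} : Set H)) = (fm (rp i).i).c := by
  apply Cls.card_cent
  · rw [card_H]
    exact dvd_card i
  · exact main.2 i

/-! ### the family of an element -/

/-- the family of an element -/
noncomputable def fam (g : H) : ℕ := (rp (cover g).choose).i

theorem fam_eq {g : H} {j : Fin 36} (h : IsConj (R j) g) : fam g = (rp j).i := by
  have h1 := (cover g).choose_spec
  rw [fam, nonconj _ _ (h1.trans h.symm)]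

theorem fam_R (j : Fin 36) : fam (R j) = (rp j).i := fam_eq (IsConj.refl _)

theorem fam_conj {g g' : H} (h : IsConj g g') : fam g = fam g' := by
  obtain ⟨j, hj⟩ := cover g
  rw [fam_eq hj, fam_eq (hj.trans h)]

theorem fam_lt (g : H) : fam g < 28 := rp_lt _

/-- numbers of fixed points of the powers -/
def lk : List (ℕ × ℕ) → ℕ → ℕ
  | [], _ => 4060
  | p :: l, d => if p.1 = d then p.2 else lk l d

/-- the number of fixed points of `X i ^ m` -/
def fx (i m : ℕ) : ℕ := lk (fm i).F (Nat.gcd m (fm i).n)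

theorem lk_mem {l : List (ℕ × ℕ)} {d : ℕ} (h : d ∈ l.map Prod.fst) : (d, lk l d) ∈ l := by
  induction l with
  | nil => exact absurd h List.not_mem_nil
  | cons p l ih =>
    rw [lk]
    split_ifs with h1
    · rw [← h1]
      exact List.mem_cons_self
    · rw [List.map_cons, List.mem_cons] at h
      rcases h with h | h
      · exact absurd h.symm h1
      · exact List.mem_cons_of_mem _ (ih h)

theorem keysOk : ∀ i : Fin 28, 0 < (fm i).n ∧ lk (fm i).F (fm i).n = 4060 ∧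
    ∀ d : Fin 30, (d : ℕ) ∣ (fm i).n → (d : ℕ) = (fm i).n ∨ (d : ℕ) ∈ (fm i).F.map Prod.fst := by decide +kernel

theorem n_lt : ∀ i : Fin 28, (fm i).n < 30 := by decide +kernel

theorem fixC_one : fixC (1 : H) = 4060 := by
  rw [fixC, Finset.filter_true_of_mem]
  · simp
  · intro p _
    rfl

theorem fixC_X {i : ℕ} (hi : i < 28) (m : ℕ) : fixC (X i ^ m) = fx i m := by
  have h1 : X i ^ (fm i).n = 1 := by rw [← order_X hi]; exact pow_orderOf_eq_one _
  rw [fixC_pow _ _ _ h1, fx]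
  obtain ⟨h0, h2, h3⟩ := keysOk ⟨i, hi⟩
  have h4 : Nat.gcd m (fm i).n ∣ (fm i).n := Nat.gcd_dvd_right _ _
  have h5 : Nat.gcd m (fm i).n < 30 := lt_of_le_of_lt (Nat.le_of_dvd h0 h4) (n_lt ⟨i, hi⟩)
  rcases h3 ⟨_, h5⟩ h4 with h6 | h6
  · have h7 : Nat.gcd m (fm i).n = (fm i).n := h6
    rw [h7, h1, fixC_one]
    exact h2.symm
  · have h7 := (hX hi).2.2.1 _ (lk_mem h6)
    exact h7

theorem fixC_R (j : Fin 36) (m : ℕ) : fixC (R j ^ m) = fx (rp j).i ((rp j).k * m) := by
  rw [R, ← pow_mul, fixC_X (rp_lt j)]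

theorem keySep : ∀ (j : Fin 36) (i : Fin 28), (fm (rp j).i).n = (fm i).n →
    fx (rp j).i ((rp j).k * 1) = fx i 1 → fx (rp j).i ((rp j).k * 3) = fx i 3 → (rp j).i = i := by decide +kernel

theorem fam_of_key {g : H} {i : ℕ} (hi : i < 28) (h0 : orderOf g = (fm i).n) (h1 : fixC (g ^ 1) = fx i 1)
    (h3 : fixC (g ^ 3) = fx i 3) : fam g = i := by
  obtain ⟨j, hj⟩ := cover g
  rw [fam_eq hj]
  refine keySep j ⟨i, hi⟩ ?_ ?_ ?_
  · rw [← order_R, order_conj hj, h0]
  · rw [← fixC_R, ← h1]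
    exact fixC_conj (hj.pow 1)
  · rw [← fixC_R, ← h3]
    exact fixC_conj (hj.pow 3)

theorem fam_pow (k : ℕ) (P : List ℕ) (h : ∀ j : Fin 36, P.getD (rp j).i 0 < 28 ∧
    (fm (rp j).i).n / Nat.gcd (fm (rp j).i).n k = (fm (P.getD (rp j).i 0)).n ∧
    fx (rp j).i ((rp j).k * (k * 1)) = fx (P.getD (rp j).i 0) 1 ∧
    fx (rp j).i ((rp j).k * (k * 3)) = fx (P.getD (rp j).i 0) 3) (hk : k ≠ 0) (g : H) :
    fam (g ^ k) = P.getD (fam g) 0 := by
  obtain ⟨j, hj⟩ := cover g
  rw [← fam_conj (hj.pow k), fam_eq hj]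
  obtain ⟨h1, h2, h3, h4⟩ := h j
  refine fam_of_key h1 ?_ ?_ ?_
  · rw [orderOf_pow' _ hk, order_R, h2]
  · rw [← pow_mul, fixC_R, h3]
  · rw [← pow_mul, fixC_R, h4]

/-- the power map for 2 -/
def P2 : List ℕ := [0, 0, 0, 3, 2, 2, 2, 2, 8, 9, 3, 11, 5, 4, 7, 8, 9, 10, 10, 19, 11, 21, 13, 16, 16, 18, 19, 27]

theorem fam_pow2 (g : H) : fam (g ^ 2) = P2.getD (fam g) 0 :=
  fam_pow 2 P2 (by decide +kernel) (by norm_num) g

/-- the power map for 3 -/
def P3 : List ℕ := [0, 1, 2, 0, 4, 5, 6, 7, 8, 9, 2, 11, 12, 13, 14, 15, 16, 6, 7, 19, 20, 8, 22, 23, 24, 14, 26, 27]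

theorem fam_pow3 (g : H) : fam (g ^ 3) = P3.getD (fam g) 0 :=
  fam_pow 3 P3 (by decide +kernel) (by norm_num) g

/-- the power map for 5 -/
def P5 : List ℕ := [0, 1, 2, 3, 4, 5, 6, 7, 0, 0, 10, 11, 12, 13, 14, 1, 2, 17, 18, 19, 20, 3, 22, 6, 7, 25, 26, 27]

theorem fam_pow5 (g : H) : fam (g ^ 5) = P5.getD (fam g) 0 :=
  fam_pow 5 P5 (by decide +kernel) (by norm_num) g

/-- the power map for 7 -/
def P7 : List ℕ := [0, 1, 2, 3, 4, 5, 6, 7, 8, 9, 10, 0, 12, 13, 14, 15, 16, 17, 18, 19, 1, 21, 22, 23, 24, 25, 26, 27]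

theorem fam_pow7 (g : H) : fam (g ^ 7) = P7.getD (fam g) 0 :=
  fam_pow 7 P7 (by decide +kernel) (by norm_num) g

/-! ### values of the invariants -/

theorem orderOf_fam (g : H) : orderOf g = (fm (fam g)).n := by
  obtain ⟨j, hj⟩ := cover g
  rw [fam_eq hj, ← order_R, order_conj hj]

theorem a1_fam (g : H) : a1 g = (fm (fam g)).A := by
  obtain ⟨j, hj⟩ := cover g
  rw [fam_eq hj, ← a1_conj hj]
  exact (RL_ok _ (rp_mem j)).1

theorem sw_fam (g : H) : sw g = (fm (fam g)).S := by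
  obtain ⟨j, hj⟩ := cover g
  rw [fam_eq hj, ← sw_conj hj]
  exact (RL_ok _ (rp_mem j)).2.2

theorem fxOk : ∀ j : Fin 36, fx (rp j).i ((rp j).k * 1) = fx (rp j).i 1 := by decide +kernel

theorem fixC_fam (g : H) : fixC g = fx (fam g) 1 := by
  obtain ⟨j, hj⟩ := cover g
  rw [fam_eq hj, ← fixC_conj hj, ← fxOk j, ← fixC_R, pow_one]

theorem o1_congr {g g' : H} (h1 : g ∈ Subgroup.zpowers g') (h2 : g' ∈ Subgroup.zpowers g) : o1 g = o1 g' := by
  have h : ∀ p : Fin 4060, (g : Equiv.Perm (Fin 4060)) p = p ↔ (g' : Equiv.Perm (Fin 4060)) p = p :=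
    fun p => ⟨fun h => fix_zpow h h2, fun h => fix_zpow h h1⟩
  rw [o1, o1]
  refine Finset.sum_congr rfl fun p _ => ?_
  by_cases h3 : (g' : Equiv.Perm (Fin 4060)) p = p
  · rw [if_pos h3, if_pos ((h p).2 h3)]
    congr 1
    ext q
    rw [mem_filter, mem_filter, h]
  · rw [if_neg h3, if_neg (fun h4 => h3 ((h p).1 h4))]

theorem o1_fam (g : H) : o1 g = (fm (fam g)).O := by
  obtain ⟨j, hj⟩ := cover g
  rw [fam_eq hj, ← o1_conj hj]
  have h1 : o1 (R j) = o1 (X (rp j).i) := by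
    apply o1_congr
    · exact pow_mem (Subgroup.mem_zpowers _) _
    · have h2 : (orderOf (X (rp j).i)).Coprime (rp j).k := by
        rw [order_X (rp_lt j)]
        exact cop j
      obtain ⟨m, hm⟩ := exists_pow_eq_self_of_coprime (x := X (rp j).i) (n := (rp j).k) h2.symm
      have h3 : (X (rp j).i ^ (rp j).k) ^ m ∈ Subgroup.zpowers (X (rp j).i ^ (rp j).k) :=
        pow_mem (Subgroup.mem_zpowers _) m
      rwa [hm] at h3
  rw [h1]
  exact (hX (rp_lt j)).2.1

end Cfsg.Agent.H300.Ru
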