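import Cfsg.Agent.H300.Ru.Eng

/-!
# Class invariants of the elements of the Rudvalis group on 4060 points, and their kernel evaluation (helper300)
-/

set_option autoImplicit false
set_option maxRecDepth 100000
set_option exponentiation.threshold 5000

namespace Cfsg.Agent.H300.Ru

open Cfsg.Agent.Lib Cfsg.Agent.Lib.BitNet Cfsg.Agent.SporadicB Cfsg.Agent.SporadicB.RuData Cfsg.Agent.SporadicB.RuOrder
open Cfsg.Agent.RuD.Data Cfsg.Agent.SporRec.TCUpperCert Cfsg.Agent.SporRec.R3.Kernel Cfsg.Agent.RuD.Letters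
open Cfsg.Agent.KFacts.Ru.CentEng Finset

/-! ### the invariants -/

/-- adjacency -/
abbrev Adj (p q : Fin 4060) : Prop := (row p).testBit q = true

theorem adj_iff (c : H) (p q : Fin 4060) : Adj ((c : Equiv.Perm (Fin 4060)) p) ((c : Equiv.Perm (Fin 4060)) q) ↔ Adj p q := by
  have h := (mem_Aut.1 c.2) p q
  rw [Adj, Adj, h]

theorem adj_symm {p q : Fin 4060} (h : Adj p q) : Adj q p := by
  have h1 := (symCheck_sound sym (lt_of_lt_of_le p.2 (by norm_num)) (lt_of_lt_of_le q.2 (by norm_num)))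
  rw [Adj] at h ⊢
  rw [← h]
  exact h1.symm

def fixC (g : H) : ℕ := (univ.filter fun p : Fin 4060 => (g : Equiv.Perm (Fin 4060)) p = p).card

def a1 (g : H) : ℕ := (univ.filter fun p : Fin 4060 => Adj p ((g : Equiv.Perm (Fin 4060)) p)).card

def j13 (g : H) : ℕ := (univ.filter fun p : Fin 4060 => Adj p ((g : Equiv.Perm (Fin 4060)) p) ∧
  Adj p (((g ^ 3 : H) : Equiv.Perm (Fin 4060)) p)).card

def sw (g : H) : ℕ := (univ.filter fun p : Fin 4060 => Adj p ((g : Equiv.Perm (Fin 4060)) p) ∧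
  ((g ^ 2 : H) : Equiv.Perm (Fin 4060)) p = p).card

def o1 (g : H) : ℕ := ∑ p : Fin 4060, if (g : Equiv.Perm (Fin 4060)) p = p then
  (univ.filter fun q : Fin 4060 => (g : Equiv.Perm (Fin 4060)) q = q ∧ Adj p q).card else 0

noncomputable def ii (g : H) : ℕ := (univ.filter fun p : Fin 4060 => ((g ^ 8 : H) : Equiv.Perm (Fin 4060)) p = p ∧
  (g : Equiv.Perm (Fin 4060)) p ≠ p ∧ Adj p (((g ^ 2 : H) : Equiv.Perm (Fin 4060)) p) ∧
  popc 12 (Nat.land full (Nat.land (row p) (Nat.land (row ((g : Equiv.Perm (Fin 4060)) p))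
    (row (((g ^ 4 : H) : Equiv.Perm (Fin 4060)) p))))) = 217).card

theorem card_conj (c : H) (P Q : Fin 4060 → Prop) [DecidablePred P] [DecidablePred Q]
    (h : ∀ p, Q ((c : Equiv.Perm (Fin 4060)) p) ↔ P p) : (univ.filter P).card = (univ.filter Q).card := by
  apply Finset.card_equiv (c : Equiv.Perm (Fin 4060))
  intro p
  rw [mem_filter, mem_filter, h]
  simp

section conj

variable {g g' : H}

theorem conj_apply (c : H) (k : ℕ) (p : Fin 4060) :
    (((c * g * c⁻¹) ^ k : H) : Equiv.Perm (Fin 4060)) ((c : Equiv.Perm (Fin 4060)) p) =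
      (c : Equiv.Perm (Fin 4060)) (((g ^ k : H) : Equiv.Perm (Fin 4060)) p) := by
  rw [conj_pow]
  change (c : Equiv.Perm (Fin 4060)) (((g ^ k : H) : Equiv.Perm (Fin 4060)) (((c : Equiv.Perm (Fin 4060)))⁻¹
    ((c : Equiv.Perm (Fin 4060)) p))) = _
  congr 2
  exact (c : Equiv.Perm (Fin 4060)).symm_apply_apply p

theorem conj_apply1 (c : H) (p : Fin 4060) :
    ((c * g * c⁻¹ : H) : Equiv.Perm (Fin 4060)) ((c : Equiv.Perm (Fin 4060)) p) =
      (c : Equiv.Perm (Fin 4060)) ((g : Equiv.Perm (Fin 4060)) p) := by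
  have := conj_apply (g := g) c 1 p
  rwa [pow_one, pow_one] at this

theorem fixC_conj (h : IsConj g g') : fixC g = fixC g' := by
  obtain ⟨c, rfl⟩ := isConj_iff.1 h
  refine card_conj c _ _ fun p => ?_
  rw [conj_apply1]
  exact (c : Equiv.Perm (Fin 4060)).injective.eq_iff

theorem a1_conj (h : IsConj g g') : a1 g = a1 g' := by
  obtain ⟨c, rfl⟩ := isConj_iff.1 h
  refine card_conj c _ _ fun p => ?_
  rw [conj_apply1, adj_iff]

theorem j13_conj (h : IsConj g g') : j13 g = j13 g' := by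
  obtain ⟨c, rfl⟩ := isConj_iff.1 h
  refine card_conj c _ _ fun p => ?_
  rw [conj_apply1, conj_apply, adj_iff, adj_iff]

theorem sw_conj (h : IsConj g g') : sw g = sw g' := by
  obtain ⟨c, rfl⟩ := isConj_iff.1 h
  refine card_conj c _ _ fun p => ?_
  rw [conj_apply1, conj_apply, adj_iff, (c : Equiv.Perm (Fin 4060)).injective.eq_iff]

theorem ii_conj (h : IsConj g g') : ii g = ii g' := by
  obtain ⟨c, rfl⟩ := isConj_iff.1 h
  refine card_conj c _ _ fun p => ?_
  rw [conj_apply1, conj_apply, conj_apply, conj_apply, adj_iff, (c : Equiv.Perm (Fin 4060)).injective.eq_iff,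
    (c : Equiv.Perm (Fin 4060)).injective.ne_iff, popc_common c.2]

theorem o1_conj (h : IsConj g g') : o1 g = o1 g' := by
  obtain ⟨c, rfl⟩ := isConj_iff.1 h
  rw [o1, o1]
  rw [← Equiv.sum_comp (c : Equiv.Perm (Fin 4060)) (fun p => if ((c * g * c⁻¹ : H) : Equiv.Perm (Fin 4060)) p = p then
    (univ.filter fun q : Fin 4060 => ((c * g * c⁻¹ : H) : Equiv.Perm (Fin 4060)) q = q ∧ Adj p q).card else 0)]
  refine Finset.sum_congr rfl fun p _ => ?_
  have h1 : (((c * g * c⁻¹ : H) : Equiv.Perm (Fin 4060)) ((c : Equiv.Perm (Fin 4060)) p) = (c : Equiv.Perm (Fin 4060)) p) ↔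
      (g : Equiv.Perm (Fin 4060)) p = p := by
    rw [conj_apply1, (c : Equiv.Perm (Fin 4060)).injective.eq_iff]
  by_cases h2 : (g : Equiv.Perm (Fin 4060)) p = p
  · rw [if_pos h2, if_pos (h1.2 h2)]
    refine card_conj c _ _ fun q => ?_
    rw [conj_apply1, adj_iff, (c : Equiv.Perm (Fin 4060)).injective.eq_iff]
  · rw [if_neg h2, if_neg (fun h3 => h2 (h1.1 h3))]

end conj

/-! ### fixed points of powers -/

theorem fix_zpow {g : H} {p : Fin 4060} (h : (g : Equiv.Perm (Fin 4060)) p = p) {g' : H}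
    (hg : g' ∈ Subgroup.zpowers g) : (g' : Equiv.Perm (Fin 4060)) p = p := by
  have h1 : g ∈ MulAction.stabilizer H p := h
  have h2 : Subgroup.zpowers g ≤ MulAction.stabilizer H p := by rwa [Subgroup.zpowers_le]
  exact h2 hg

theorem fixC_congr {g g' : H} (h1 : g ∈ Subgroup.zpowers g') (h2 : g' ∈ Subgroup.zpowers g) : fixC g = fixC g' := by
  rw [fixC, fixC]
  congr 1
  ext p
  rw [mem_filter, mem_filter]
  simp only [mem_univ, true_and]
  exact ⟨fun h => fix_zpow h h2, fun h => fix_zpow h h1⟩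

theorem fixC_pow (g : H) (m n : ℕ) (hn : g ^ n = 1) : fixC (g ^ m) = fixC (g ^ Nat.gcd m n) := by
  apply fixC_congr
  · obtain ⟨t, ht⟩ := Nat.gcd_dvd_left m n
    have h1 : g ^ m = (g ^ Nat.gcd m n) ^ t := by rw [← pow_mul, ← ht]
    rw [h1]
    exact pow_mem (Subgroup.mem_zpowers _) t
  · have h1 : g ^ (Nat.gcd m n : ℤ) = (g ^ m) ^ (Nat.gcdA m n) := by
      rw [Nat.gcd_eq_gcd_ab, zpow_add, zpow_mul, zpow_mul, zpow_natCast, zpow_natCast, hn, one_zpow, mul_one]
    rw [← zpow_natCast g (Nat.gcd m n), h1]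
    exact zpow_mem (Subgroup.mem_zpowers _) _

/-! ### kernel evaluation -/

theorem popc_eq_card {m : ℕ} {f : Fin 4060 → Prop} [DecidablePred f] (h : ∀ i : Fin 4060, m.testBit i = true ↔ f i)
    (h' : ∀ i, 4060 ≤ i → m.testBit i = false) : popc 12 m = (univ.filter f).card := by
  have h1 : pts 4060 m = univ.filter f := by
    ext i
    rw [mem_pts, mem_filter, h]
    simp
  rw [← h1]
  apply le_antisymm
  · apply card_pts_eq
    intro i hi
    by_contra h2
    rw [h' i (not_lt.1 h2)] at hi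
    exact Bool.false_ne_true hi
  · exact card_pts_le (by norm_num) _

/-! ### tables -/

/-- packing of values of 12 bits -/
noncomputable def tabM (f : ℕ → ℕ) (K : ℕ) : ℕ → ℕ :=
  Nat.rec (motive := fun _ => ℕ → ℕ) (fun b => f b)
    (fun k ih b => Nat.lor (ih b) (Nat.shiftLeft (BitNetSimple.force (Nat.add b (Nat.pow 2 k)) ih)
      (Nat.mul 12 (Nat.pow 2 k)))) K

theorem tabM_succ (f : ℕ → ℕ) (K b : ℕ) :
    tabM f (K + 1) b = tabM f K b ||| (tabM f K (b + 2 ^ K)) <<< (12 * 2 ^ K) := by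
  have e : tabM f (K + 1) b = tabM f K b ||| (BitNetSimple.force (b + 2 ^ K) (tabM f K)) <<< (12 * 2 ^ K) := rfl
  rw [e, BitNetSimple.force_eq]

theorem testBit_tabM (f : ℕ → ℕ) : ∀ (K b : ℕ), (∀ i < 2 ^ K, f (b + i) < 4096) → ∀ i,
    (tabM f K b).testBit i = (decide (i < 12 * 2 ^ K) && (f (b + i / 12)).testBit (i % 12))
  | 0, b, hf, i => by
    have e : tabM f 0 b = f b := rfl
    rw [e, pow_zero, mul_one]
    rcases lt_or_ge i 12 with h | h
    · rw [decide_eq_true h, Nat.div_eq_of_lt h, Nat.mod_eq_of_lt h, add_zero, Bool.true_and]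
    · have h1 : ¬ i < 12 := by omega
      rw [decide_eq_false h1, Bool.false_and]
      refine Nat.testBit_lt_two_pow (lt_of_lt_of_le (hf 0 (by norm_num)) ?_)
      calc (4096 : ℕ) = 2 ^ 12 := by norm_num
        _ ≤ 2 ^ i := Nat.pow_le_pow_right (by norm_num) h
  | K + 1, b, hf, i => by
    have h2 : 2 ^ (K + 1) = 2 ^ K + 2 ^ K := by ring
    rw [tabM_succ, Nat.testBit_or, Nat.testBit_shiftLeft, testBit_tabM f K b fun i hi => hf i (by omega),
      testBit_tabM f K (b + 2 ^ K) fun i hi => by rw [add_assoc]; exact hf _ (by omega)]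
    by_cases h : i < 12 * 2 ^ K
    · have h3 : ¬ (i ≥ 12 * 2 ^ K) := by omega
      have h4 : i < 12 * 2 ^ (K + 1) := by omega
      simp [h, h4]
    · have h3 : i ≥ 12 * 2 ^ K := by omega
      have h5 : b + 2 ^ K + (i - 12 * 2 ^ K) / 12 = b + i / 12 := by
        omega
      have h6 : (i - 12 * 2 ^ K) % 12 = i % 12 := by omega
      rw [h5, h6]
      by_cases h4 : i < 12 * 2 ^ (K + 1)
      · have h7 : i - 12 * 2 ^ K < 12 * 2 ^ K := by omega
        simp [h, h3, h4, h7]
      · have h7 : ¬ (i - 12 * 2 ^ K < 12 * 2 ^ K) := by omega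
        simp [h, h4, h7]

theorem look_tabM {f : ℕ → ℕ} {K b : ℕ} (hf : ∀ i < 2 ^ K, f (b + i) < 4096) {i : ℕ} (hi : i < 2 ^ K) :
    look (tabM f K b) i = f (b + i) := by
  apply Nat.eq_of_testBit_eq
  intro k
  change ((tabM f K b >>> (12 * i)) &&& 4095).testBit k = _
  have e : (4095 : ℕ) = 2 ^ 12 - 1 := by norm_num
  rw [e, Nat.testBit_and, Nat.testBit_shiftRight, Nat.testBit_two_pow_sub_one, testBit_tabM f K b hf]
  rcases lt_or_ge k 12 with h | h
  · have h1 : (12 * i + k) / 12 = i := by omega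
    have h2 : (12 * i + k) % 12 = k := by omega
    have h3 : 12 * i + k < 12 * 2 ^ K := by omega
    rw [h1, h2, decide_eq_true h, decide_eq_true h3, Bool.true_and, Bool.and_true]
  · have h1 : ¬ k < 12 := by omega
    rw [decide_eq_false h1, Bool.and_false]
    symm
    refine Nat.testBit_lt_two_pow (lt_of_lt_of_le (hf i hi) ?_)
    calc (4096 : ℕ) = 2 ^ 12 := by norm_num
      _ ≤ 2 ^ k := Nat.pow_le_pow_right (by norm_num) h

/-- `T` is the table of `g` -/
def IsTab (T : ℕ) (g : H) : Prop := ∀ p : Fin 4060, look T p = ((g : Equiv.Perm (Fin 4060)) p : ℕ)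

/-- iterated value -/
noncomputable def itL (T : ℕ) (j i : ℕ) : ℕ :=
  Nat.rec (motive := fun _ => ℕ) i (fun _ ih => look T ih) j

theorem itL_eq {T : ℕ} {g : H} (hT : IsTab T g) (j : ℕ) (i : Fin 4060) :
    itL T j i = (((g ^ j : H) : Equiv.Perm (Fin 4060)) i : ℕ) := by
  induction j with
  | zero => rfl
  | succ j ih =>
    have e : itL T (j + 1) i = look T (itL T j i) := rfl
    rw [e, ih, hT, pow_succ']
    rfl

noncomputable def tbl (w : List ℕ) : ℕ := tabM (evT w) 12 0

noncomputable def tbp (T k : ℕ) : ℕ := tabM (itL T k) 12 0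

theorem isTab_tbl {w : List ℕ} (hw : okW w = true) : IsTab (tbl w) (wprod ml w) := by
  intro p
  have hp := p.2
  rw [tbl, look_tabM _ (by omega), zero_add, evT_eq hw]
  intro i hi
  rw [zero_add]
  cases w with
  | nil => exact lt_of_lt_of_le hi (by norm_num)
  | cons a w => exact look_lt _ _

theorem isTab_tbp {T : ℕ} {g : H} (hT : IsTab T g) (k : ℕ) : IsTab (tbp T k) (g ^ k) := by
  intro p
  have hp := p.2
  rw [tbp, look_tabM _ (by omega), zero_add, itL_eq hT]
  intro i hi
  rw [zero_add]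
  cases k with
  | zero => exact lt_of_lt_of_le hi (by norm_num)
  | succ k => exact look_lt _ _

noncomputable def fixL (T j : ℕ) : ℕ := mask fun p => Nat.beq (itL T j p) p
noncomputable def adjL (T j : ℕ) : ℕ := mask fun p => BitNetSimple.tb (row p) (itL T j p)
noncomputable def triL (T m a b v : ℕ) : ℕ :=
  mask fun p => Bool.rec false (Nat.beq (popc 12 (Nat.land full (Nat.land (row p) (Nat.land (row (itL T a p))
    (row (itL T b p)))))) v) (BitNetSimple.tb m p)

theorem fixL_ge (T j : ℕ) (i : ℕ) (hi : 4060 ≤ i) : (fixL T j).testBit i = false :=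
  testBit_mask_ge _ hi

theorem adjL_ge (T j : ℕ) (i : ℕ) (hi : 4060 ≤ i) : (adjL T j).testBit i = false :=
  testBit_mask_ge _ hi

section eval

variable {T : ℕ} {g : H} (hT : IsTab T g)

include hT

theorem fixL_iff (j : ℕ) (i : Fin 4060) : (fixL T j).testBit i = true ↔
    ((g ^ j : H) : Equiv.Perm (Fin 4060)) i = i := by
  rw [fixL, testBit_mask, Nat.beq_eq, itL_eq hT, Fin.ext_iff]

theorem adjL_iff (j : ℕ) (i : Fin 4060) : (adjL T j).testBit i = true ↔
    Adj i (((g ^ j : H) : Equiv.Perm (Fin 4060)) i) := by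
  rw [adjL, testBit_mask, BitNetSimple.tb_eq, itL_eq hT]

theorem triL_iff (m a b v : ℕ) (i : Fin 4060) : (triL T m a b v).testBit i = true ↔
    m.testBit i = true ∧ popc 12 (Nat.land full (Nat.land (row i) (Nat.land
      (row (((g ^ a : H) : Equiv.Perm (Fin 4060)) i)) (row (((g ^ b : H) : Equiv.Perm (Fin 4060)) i))))) = v := by
  rw [triL, testBit_mask, and3, Bool.and_eq_true, BitNetSimple.tb_eq, Nat.beq_eq, itL_eq hT, itL_eq hT]

omit hT in
theorem testBit_land (a b i : ℕ) : (Nat.land a b).testBit i = (a.testBit i && b.testBit i) := Nat.testBit_and a b i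

theorem fixC_eval (j : ℕ) : fixC (g ^ j) = popc 12 (fixL T j) :=
  (popc_eq_card (fun i => fixL_iff hT j i) (fixL_ge T j)).symm

theorem a1_eval : a1 g = popc 12 (adjL T 1) := by
  refine (popc_eq_card (fun i => ?_) (adjL_ge T 1)).symm
  rw [adjL_iff hT, pow_one]

theorem j13_eval : j13 g = popc 12 (Nat.land (adjL T 1) (adjL T 3)) := by
  refine (popc_eq_card (fun i => ?_) ?_).symm
  · rw [testBit_land, Bool.and_eq_true, adjL_iff hT, adjL_iff hT, pow_one]
  · intro i hi
    rw [testBit_land, adjL_ge T 1 i hi]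
    rfl

theorem sw_eval : sw g = popc 12 (Nat.land (adjL T 1) (fixL T 2)) := by
  refine (popc_eq_card (fun i => ?_) ?_).symm
  · rw [testBit_land, Bool.and_eq_true, adjL_iff hT, fixL_iff hT, pow_one]
  · intro i hi
    rw [testBit_land, adjL_ge T 1 i hi]
    rfl

omit hT in
/-- the mask of the points of the eighth invariant -/
noncomputable def iiM (T : ℕ) : ℕ :=
  Nat.land (adjL T 2) (triL T (Nat.land (fixL T 8) (Nat.xor full (fixL T 1))) 1 4 217)

omit hT in
theorem testBit_full (i : Fin 4060) : full.testBit i = true := by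
  change (2 ^ 4060 - 1).testBit _ = true
  rw [Nat.testBit_two_pow_sub_one]
  simp

theorem ii_eval : ii g = popc 12 (iiM T) := by
  refine (popc_eq_card (fun i => ?_) ?_).symm
  · rw [iiM, testBit_land, Bool.and_eq_true, adjL_iff hT, triL_iff hT, testBit_land, Bool.and_eq_true, fixL_iff hT,
      pow_one]
    have h1 : (Nat.xor full (fixL T 1)).testBit i = true ↔ ¬ (g : Equiv.Perm (Fin 4060)) i = i := by
      change (full ^^^ fixL T 1).testBit i = true ↔ _
      rw [Nat.testBit_xor, testBit_full, Bool.true_xor, Bool.not_eq_true', ← Bool.not_eq_true, fixL_iff hT, pow_one]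
    rw [h1]
    tauto
  · intro i hi
    rw [iiM, testBit_land, adjL_ge T 2 i hi]
    rfl

omit hT in
/-- sums -/
noncomputable def sumT (f : ℕ → ℕ) (K : ℕ) : ℕ → ℕ :=
  Nat.rec (motive := fun _ => ℕ → ℕ) (fun b => f b)
    (fun k ih b => Nat.add (ih b) (BitNetSimple.force (Nat.add b (Nat.pow 2 k)) ih)) K

omit hT in
theorem sumT_eq (f : ℕ → ℕ) : ∀ K b, sumT f K b = ∑ i ∈ range (2 ^ K), f (b + i)
  | 0, b => by
    change f b = _
    simp
  | K + 1, b => by
    have e : sumT f (K + 1) b = sumT f K b + BitNetSimple.force (b + 2 ^ K) (sumT f K) := rfl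
    rw [e, BitNetSimple.force_eq, sumT_eq f K, sumT_eq f K, pow_succ, mul_two, Finset.sum_range_add]
    refine congrArg₂ _ rfl (Finset.sum_congr rfl fun i _ => ?_)
    rw [add_assoc]

omit hT in
noncomputable def o1K (T : ℕ) : ℕ :=
  BitNetSimple.force (fixL T 1) fun M =>
    sumT (fun p => Bool.rec 0 (popc 12 (Nat.land (row p) M)) (BitNetSimple.tb M p)) 12 0

theorem o1_eval : o1 g = o1K T := by
  rw [o1K, BitNetSimple.force_eq, sumT_eq]
  have h1 : range (2 ^ 12) = range (4060 + 36) := by norm_num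
  rw [h1, Finset.sum_range_add]
  have h2 : ∑ x ∈ range 36, (fun p => (Bool.rec 0 (popc 12 (Nat.land (row p) (fixL T 1)))
      (BitNetSimple.tb (fixL T 1) p) : ℕ)) (0 + (4060 + x)) = 0 := by
    refine Finset.sum_eq_zero fun x _ => ?_
    change (Bool.rec 0 _ (BitNetSimple.tb (fixL T 1) (0 + (4060 + x))) : ℕ) = 0
    rw [BitNetSimple.tb_eq, fixL_ge T 1 _ (by omega)]
  rw [h2, add_zero, ← Fin.sum_univ_eq_sum_range (fun i => (fun p => (Bool.rec 0 (popc 12 (Nat.land (row p) (fixL T 1)))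
      (BitNetSimple.tb (fixL T 1) p) : ℕ)) (0 + i))]
  rw [o1]
  refine Finset.sum_congr rfl fun p _ => ?_
  change _ = (Bool.rec 0 (popc 12 (Nat.land (row (0 + p)) (fixL T 1))) (BitNetSimple.tb (fixL T 1) (0 + p)) : ℕ)
  rw [zero_add, BitNetSimple.tb_eq]
  by_cases h : (g : Equiv.Perm (Fin 4060)) p = p
  · rw [if_pos h]
    have h3 : (fixL T 1).testBit p = true := by rw [fixL_iff hT, pow_one]; exact h
    rw [h3]
    change _ = popc 12 (Nat.land (row p) (fixL T 1))
    refine (popc_eq_card (fun i => ?_) ?_).symm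
    · rw [testBit_land, Bool.and_eq_true, fixL_iff hT, pow_one]
      exact and_comm
    · intro i hi
      rw [testBit_land, fixL_ge T 1 i hi, Bool.and_false]
  · rw [if_neg h]
    have h3 : (fixL T 1).testBit p = false := by
      rw [← Bool.not_eq_true, fixL_iff hT, pow_one]; exact h
    rw [h3]

end eval

/-! ### orders -/

def bs : List ℕ := [0, 29, 580, 577]

noncomputable def chkO (T : ℕ) (n : ℕ) : Bool :=
  Bool.rec false ((List.range n).all fun d => Bool.rec (bs.any fun b => Bool.rec true false (Nat.beq (itL T d b) b)) true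
    (Nat.beq d 0)) (bs.all fun b => Nat.beq (itL T n b) b)

theorem order_eval {T : ℕ} {g : H} (hT : IsTab T g) {n : ℕ} (hn : 0 < n) (h : chkO T n = true) :
    orderOf g = n := by
  obtain ⟨h1, h2⟩ := and2 h
  rw [orderOf_eq_iff hn]
  have hb : ∀ (k : ℕ), ((g : H) ^ k = 1 ↔ ∀ b ∈ bs, itL T k b = b) := by
    intro k
    have e : ∀ b : Fin 4060, (itL T k b = b ↔ ((g ^ k : H) : Equiv.Perm (Fin 4060)) b = b) := by
      intro b
      rw [itL_eq hT, Fin.ext_iff]
    constructor
    · intro h3 b hb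
      have hlt : b < 4060 := by
        rw [bs] at hb
        rcases List.mem_cons.1 hb with rfl | hb
        · norm_num
        rcases List.mem_cons.1 hb with rfl | hb
        · norm_num
        rcases List.mem_cons.1 hb with rfl | hb
        · norm_num
        rcases List.mem_cons.1 hb with rfl | hb
        · norm_num
        · exact absurd hb List.not_mem_nil
      refine (e ⟨b, hlt⟩).2 ?_
      rw [h3]
      rfl
    · intro h3
      have f0 := (e b1).1 (h3 0 (by decide))
      have f1 := (e b2).1 (h3 29 (by decide))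
      have f2 := (e b3).1 (h3 580 (by decide))
      have f3 := (e b4).1 (h3 577 (by decide))
      exact eq_one_of_base f0 f1 f2 f3
  constructor
  · rw [hb]
    intro b hbb
    exact Nat.eq_of_beq_eq_true (List.all_eq_true.1 h1 b hbb)
  · intro m hm hm0 h3
    rw [hb] at h3
    have h4 := List.all_eq_true.1 h2 m (List.mem_range.2 hm)
    have h5 : Nat.beq m 0 = false := by
      rw [← Bool.not_eq_true, Nat.beq_eq]
      omega
    rw [h5] at h4
    obtain ⟨b, hbb, h6⟩ := List.any_eq_true.1 h4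
    have h7 : Nat.beq (itL T m b) b = true := by rw [Nat.beq_eq]; exact h3 b hbb
    rw [h7] at h6
    exact Bool.false_ne_true h6

end Cfsg.Agent.H300.Ru
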