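import Cfsg.Agent.H300.Ru.Chk

/-!
# Kernel values: the families 1-14 (helper300)
-/

set_option autoImplicit false
set_option maxRecDepth 100000
set_option exponentiation.threshold 5000

namespace Cfsg.Agent.H300.Ru

open Cfsg.Agent.Lib Cfsg.Agent.Lib.BitNet Cfsg.Agent.SporadicB

theorem kf1 : chkF [0] 2 0 [(1, 0)] = true := by decide +kernel
theorem kf2 : chkF [2] 2 3252 [(1, 92)] = true := by decide +kernel
theorem kf3 : chkF [8] 3 0 [(1, 10)] = true := by decide +kernel
theorem kf4 : chkF [7, 8, 5, 0, 3, 6] 4 12 [(1, 4), (2, 92)] = true := by decide +kernel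
theorem kf5 : chkF [1, 0] 4 56 [(1, 8), (2, 92)] = true := by decide +kernel
theorem kf6 : chkF [1] 4 60 [(1, 20), (2, 92)] = true := by decide +kernel
theorem kf7 : chkF [3, 5, 6, 7, 1, 1] 4 672 [(1, 32), (2, 92)] = true := by decide +kernel
theorem kf8 : chkF [2, 3, 6] 5 0 [(1, 0)] = true := by decide +kernel
theorem kf9 : chkF [8, 0, 5] 5 50 [(1, 10)] = true := by decide +kernel
theorem kf10 : chkF [2, 4] 6 0 [(1, 2), (2, 10), (3, 92)] = true := by decide +kernel
theorem kf11 : chkF [3] 7 0 [(1, 0)] = true := by decide +kernel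
theorem kf12 : chkF [5, 3] 8 2 [(1, 2), (2, 8), (4, 92)] = true := by decide +kernel
theorem kf13 : chkF [4, 1, 1, 3, 2, 5] 8 12 [(1, 4), (2, 4), (4, 92)] = true := by decide +kernel
theorem kf14 : chkF [2, 5, 7, 6, 6, 4] 8 6 [(1, 6), (2, 32), (4, 92)] = true := by decide +kernel

end Cfsg.Agent.H300.Ru
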