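import Cfsg.Agent.H300.Ru.Chk

/-!
# Kernel values: the families 15-27 (helper300)
-/

set_option autoImplicit false
set_option maxRecDepth 100000
set_option exponentiation.threshold 5000

namespace Cfsg.Agent.H300.Ru

open Cfsg.Agent.Lib Cfsg.Agent.Lib.BitNet Cfsg.Agent.SporadicB

theorem kf15 : chkF [3, 6, 0, 2] 10 0 [(1, 0), (2, 0), (5, 0)] = true := by decide +kernel
theorem kf16 : chkF [5, 0, 8, 2] 10 2 [(1, 2), (2, 10), (5, 92)] = true := by decide +kernel
theorem kf17 : chkF [8, 6] 12 0 [(1, 2), (2, 2), (3, 20), (4, 10), (6, 92)] = true := by decide +kernel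
theorem kf18 : chkF [5, 3, 8, 0] 12 0 [(1, 2), (2, 2), (3, 32), (4, 10), (6, 92)] = true := by decide +kernel
theorem kf19 : chkF [7, 1, 2] 13 0 [(1, 4)] = true := by decide +kernel
theorem kf20 : chkF [0, 3] 14 0 [(1, 0), (2, 0), (7, 0)] = true := by decide +kernel
theorem kf21 : chkF [6, 2, 4, 3] 15 0 [(1, 0), (3, 0), (5, 10)] = true := by decide +kernel
theorem kf22 : chkF [7, 0, 5, 1] 16 2 [(1, 2), (2, 4), (4, 4), (8, 92)] = true := by decide +kernel
theorem kf23 : chkF [7, 7, 5] 20 0 [(1, 0), (2, 2), (4, 10), (5, 20), (10, 92)] = true := by decide +kernel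
theorem kf24 : chkF [3, 6, 2, 5, 1] 20 2 [(1, 2), (2, 2), (4, 10), (5, 32), (10, 92)] = true := by decide +kernel
theorem kf25 : chkF [3, 3, 6, 5, 6] 24 0 [(1, 0), (2, 2), (3, 6), (4, 2), (6, 32), (8, 10), (12, 92)] = true := by decide +kernel
theorem kf26 : chkF [3, 5, 0] 26 0 [(1, 0), (2, 4), (13, 0)] = true := by decide +kernel
theorem kf27 : chkF [3, 2, 7, 0, 5] 29 0 [(1, 0)] = true := by decide +kernel

end Cfsg.Agent.H300.Ru
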