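import Cfsg.Agent.H300.Ru.Chk

/-!
# Kernel values: the elements of order 16 (helper300)
-/

set_option autoImplicit false
set_option maxRecDepth 100000
set_option exponentiation.threshold 5000

namespace Cfsg.Agent.H300.Ru

open Cfsg.Agent.Lib Cfsg.Agent.Lib.BitNet Cfsg.Agent.SporadicB

theorem ki1 : iiW [7, 0, 5, 1] 1 = 24 := by decide +kernel
theorem ki3 : iiW [7, 0, 5, 1] 3 = 8 := by decide +kernel

end Cfsg.Agent.H300.Ru
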