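import Cfsg.Agent.H300.Ru.Chk

/-!
# Kernel values: the representatives 0-11 (helper300)
-/

set_option autoImplicit false
set_option maxRecDepth 100000
set_option exponentiation.threshold 5000

namespace Cfsg.Agent.H300.Ru

open Cfsg.Agent.Lib Cfsg.Agent.Lib.BitNet Cfsg.Agent.SporadicB

theorem kr0 : chkR [] 1 0 0 0 = true := by decide +kernel
theorem kr1 : chkR [0] 1 1820 1820 1820 = true := by decide +kernel
theorem kr2 : chkR [2] 1 1920 1920 1920 = true := by decide +kernel
theorem kr3 : chkR [8] 1 0 1890 0 = true := by decide +kernel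
theorem kr4 : chkR [7, 8, 5, 0, 3, 6] 1 1880 1880 88 = true := by decide +kernel
theorem kr5 : chkR [1, 0] 1 1940 1940 20 = true := by decide +kernel
theorem kr6 : chkR [1] 1 840 840 72 = true := by decide +kernel
theorem kr7 : chkR [3, 5, 6, 7, 1, 1] 1 1020 1020 60 = true := by decide +kernel
theorem kr8 : chkR [2, 3, 6] 1 300 1500 0 = true := by decide +kernel
theorem kr9 : chkR [8, 0, 5] 1 250 1250 0 = true := by decide +kernel
theorem kr10 : chkR [2, 4] 1 864 1770 0 = true := by decide +kernel
theorem kr11 : chkR [3] 1 812 1820 0 = true := by decide +kernel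

end Cfsg.Agent.H300.Ru
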