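import Cfsg.Agent.H300.Ru.Chk

/-!
# Kernel values: the representatives 12-23 (helper300)
-/

set_option autoImplicit false
set_option maxRecDepth 100000
set_option exponentiation.threshold 5000

namespace Cfsg.Agent.H300.Ru

open Cfsg.Agent.Lib Cfsg.Agent.Lib.BitNet Cfsg.Agent.SporadicB

theorem kr12 : chkR [5, 3] 1 954 1850 6 = true := by decide +kernel
theorem kr13 : chkR [4, 1, 1, 3, 2, 5] 1 536 1560 0 = true := by decide +kernel
theorem kr14 : chkR [2, 5, 7, 6, 6, 4] 1 438 1590 18 = true := by decide +kernel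
theorem kr15 : chkR [3, 6, 0, 2] 1 1020 1820 0 = true := by decide +kernel
theorem kr16 : chkR [5, 0, 8, 2] 1 610 1770 0 = true := by decide +kernel
theorem kr17 : chkR [8, 6] 1 372 1770 0 = true := by decide +kernel
theorem kr18 : chkR [5, 3, 8, 0] 1 360 1770 0 = true := by decide +kernel
theorem kr19 : chkR [7, 1, 2] 1 728 1560 0 = true := by decide +kernel
theorem kr20 : chkR [0, 3] 1 756 1820 0 = true := by decide +kernel
theorem kr21 : chkR [0, 3] 3 868 1820 0 = true := by decide +kernel
theorem kr22 : chkR [0, 3] 5 812 1820 0 = true := by decide +kernel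
theorem kr23 : chkR [6, 2, 4, 3] 1 720 1740 0 = true := by decide +kernel

end Cfsg.Agent.H300.Ru
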