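import Cfsg.Agent.H300.Ru.CertA
import Cfsg.Agent.H300.Ru.CertB
import Cfsg.Agent.H300.Ru.CertC
import Cfsg.Agent.H300.Ru.CertD
import Cfsg.Agent.H300.Ru.KerFA
import Cfsg.Agent.H300.Ru.KerFB
import Cfsg.Agent.H300.Ru.KerRA
import Cfsg.Agent.H300.Ru.KerRB
import Cfsg.Agent.H300.Ru.KerRC
import Cfsg.Agent.H300.Ru.KerI

/-!
# The families and representatives of the classes of the Rudvalis group (helper300)
-/

set_option autoImplicit false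
set_option maxRecDepth 100000
set_option exponentiation.threshold 5000

namespace Cfsg.Agent.H300.Ru

open Cfsg.Agent.Lib Cfsg.Agent.Lib.BitNet Cfsg.Agent.SporadicB Cfsg.Agent.SporadicB.RuData Cfsg.Agent.SporadicB.RuOrder
open Cfsg.Agent.RuD.Data Cfsg.Agent.SporRec.TCUpperCert Cfsg.Agent.SporRec.R3.Kernel Cfsg.Agent.RuD.Letters
open Cfsg.Agent.KFacts.Ru.CentEng Finset

/-- the families: word, order, centralizer order, numbers of fixed points of the powers, `a1`, `sw`, `o1` -/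
def FL : List Fm := [
  ⟨[], 1, 145926144000, [], 0, 0, 7125300⟩,
  ⟨[0], 2, 116480, [(1, 0)], 1820, 1820, 0⟩,
  ⟨[2], 2, 245760, [(1, 92)], 1920, 1920, 3252⟩,
  ⟨[8], 3, 2160, [(1, 10)], 1890, 0, 0⟩,
  ⟨[7, 8, 5, 0, 3, 6], 4, 1024, [(1, 4), (2, 92)], 1880, 88, 12⟩,
  ⟨[1, 0], 4, 512, [(1, 8), (2, 92)], 1940, 20, 56⟩,
  ⟨[1], 4, 3840, [(1, 20), (2, 92)], 840, 72, 60⟩,
  ⟨[3, 5, 6, 7, 1, 1], 4, 7680, [(1, 32), (2, 92)], 1020, 60, 672⟩,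
  ⟨[2, 3, 6], 5, 300, [(1, 0)], 1500, 0, 0⟩,
  ⟨[8, 0, 5], 5, 1000, [(1, 10)], 1250, 0, 50⟩,
  ⟨[2, 4], 6, 48, [(1, 2), (2, 10), (3, 92)], 1770, 0, 0⟩,
  ⟨[3], 7, 28, [(1, 0)], 1820, 0, 0⟩,
  ⟨[5, 3], 8, 32, [(1, 2), (2, 8), (4, 92)], 1850, 6, 2⟩,
  ⟨[4, 1, 1, 3, 2, 5], 8, 64, [(1, 4), (2, 4), (4, 92)], 1560, 0, 12⟩,
  ⟨[2, 5, 7, 6, 6, 4], 8, 96, [(1, 6), (2, 32), (4, 92)], 1590, 18, 6⟩,
  ⟨[3, 6, 0, 2], 10, 20, [(1, 0), (2, 0), (5, 0)], 1820, 0, 0⟩,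
  ⟨[5, 0, 8, 2], 10, 40, [(1, 2), (2, 10), (5, 92)], 1770, 0, 2⟩,
  ⟨[8, 6], 12, 12, [(1, 2), (2, 2), (3, 20), (4, 10), (6, 92)], 1770, 0, 0⟩,
  ⟨[5, 3, 8, 0], 12, 24, [(1, 2), (2, 2), (3, 32), (4, 10), (6, 92)], 1770, 0, 0⟩,
  ⟨[7, 1, 2], 13, 52, [(1, 4)], 1560, 0, 0⟩,
  ⟨[0, 3], 14, 28, [(1, 0), (2, 0), (7, 0)], 1820, 0, 0⟩,
  ⟨[6, 2, 4, 3], 15, 15, [(1, 0), (3, 0), (5, 10)], 1740, 0, 0⟩,
  ⟨[7, 0, 5, 1], 16, 16, [(1, 2), (2, 4), (4, 4), (8, 92)], 1690, 2, 2⟩,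
  ⟨[7, 7, 5], 20, 20, [(1, 0), (2, 2), (4, 10), (5, 20), (10, 92)], 1740, 2, 0⟩,
  ⟨[3, 6, 2, 5, 1], 20, 20, [(1, 2), (2, 2), (4, 10), (5, 32), (10, 92)], 1770, 0, 2⟩,
  ⟨[3, 3, 6, 5, 6], 24, 24, [(1, 0), (2, 2), (3, 6), (4, 2), (6, 32), (8, 10), (12, 92)], 1740, 0, 0⟩,
  ⟨[3, 5, 0], 26, 52, [(1, 0), (2, 4), (13, 0)], 1820, 0, 0⟩,
  ⟨[3, 2, 7, 0, 5], 29, 29, [(1, 0)], 1740, 0, 0⟩]

/-- a representative: family, exponent, invariant `j13` -/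
structure Rp where
  i : ℕ
  k : ℕ
  J : ℕ
deriving DecidableEq

/-- the representatives of the classes -/
def RL : List Rp := [
  ⟨0, 1, 0⟩, ⟨1, 1, 1820⟩, ⟨2, 1, 1920⟩, ⟨3, 1, 0⟩, ⟨4, 1, 1880⟩, ⟨5, 1, 1940⟩, ⟨6, 1, 840⟩, ⟨7, 1, 1020⟩,
  ⟨8, 1, 300⟩, ⟨9, 1, 250⟩, ⟨10, 1, 864⟩, ⟨11, 1, 812⟩, ⟨12, 1, 954⟩, ⟨13, 1, 536⟩, ⟨14, 1, 438⟩, ⟨15, 1, 1020⟩,
  ⟨16, 1, 610⟩, ⟨17, 1, 372⟩, ⟨18, 1, 360⟩, ⟨19, 1, 728⟩, ⟨20, 1, 756⟩, ⟨20, 3, 868⟩, ⟨20, 5, 812⟩, ⟨21, 1, 720⟩,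
  ⟨22, 1, 794⟩, ⟨22, 3, 794⟩, ⟨23, 1, 820⟩, ⟨23, 3, 740⟩, ⟨24, 1, 850⟩, ⟨25, 1, 540⟩, ⟨25, 7, 732⟩, ⟨26, 1, 1092⟩,
  ⟨26, 3, 884⟩, ⟨26, 7, 780⟩, ⟨27, 1, 696⟩, ⟨27, 2, 580⟩]

def fm (i : ℕ) : Fm := FL.getD i ⟨[], 1, 1, [], 0, 0, 0⟩

noncomputable def X (i : ℕ) : H := wprod ml (fm i).w

def PF (f : Fm) : Prop := orderOf (wprod ml f.w : H) = f.n ∧ o1 (wprod ml f.w) = f.O ∧
  (∀ p ∈ f.F, fixC ((wprod ml f.w) ^ p.1) = p.2) ∧
  Nat.card (Subgroup.centralizer ({wprod ml f.w} : Set H)) ≤ f.c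

theorem pf_of {w : List ℕ} {n c O A S : ℕ} {F : List (ℕ × ℕ)} (hw : okW w = true) (hn : 0 < n)
    (h : chkF w n O F = true) {c0 c1 c2 c3 : ℕ} {l : List CI} (hc : chk w c0 c1 c2 c3 l [full] c = true) :
    PF ⟨w, n, c, F, A, S, O⟩ := by
  rw [chkF, BitNetSimple.force_eq] at h
  obtain ⟨h1, h⟩ := and2 h
  obtain ⟨h2, h3⟩ := and2 h
  have hT := isTab_tbl hw
  refine ⟨order_eval hT hn h1, ?_, ?_, card_cent_le hw hc⟩
  · change o1 (wprod ml w) = O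
    rw [o1_eval hT]
    exact Nat.eq_of_beq_eq_true h2
  · intro p hp
    change fixC ((wprod ml w) ^ p.1) = p.2
    rw [fixC_eval hT]
    exact Nat.eq_of_beq_eq_true (List.all_eq_true.1 h3 p hp)

/-- the number of neighbours -/
theorem card_adj (p : Fin 4060) : (univ.filter fun q : Fin 4060 => Adj p q).card = 1755 := by
  have ht := isPretransitive
  obtain ⟨c, rfl⟩ := MulAction.exists_smul_eq H b1 p
  change (univ.filter fun q : Fin 4060 => Adj ((c : Equiv.Perm (Fin 4060)) b1) q).card = 1755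
  rw [← card_conj c (fun q => Adj b1 q) _ fun q => adj_iff c b1 q]
  have h : Nat.beq (popc 12 (row 0)) 1755 = true := by decide +kernel
  have h' : Nat.beq (Nat.shiftRight (row 0) 4060) 0 = true := by decide +kernel
  rw [← Nat.eq_of_beq_eq_true h]
  refine (popc_eq_card (fun i => Iff.rfl) fun i hi => ?_).symm
  have h1 : (row 0) >>> 4060 = 0 := Nat.eq_of_beq_eq_true h'
  have h2 : ((row 0) >>> 4060).testBit (i - 4060) = (row 0).testBit i := by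
    rw [Nat.testBit_shiftRight]
    congr 1
    omega
  change (row 0).testBit i = false
  rw [← h2, h1, Nat.zero_testBit]

theorem o1_one : o1 (1 : H) = 7125300 := by
  have h : ∀ p : Fin 4060, (if ((1 : H) : Equiv.Perm (Fin 4060)) p = p then
      (univ.filter fun q : Fin 4060 => ((1 : H) : Equiv.Perm (Fin 4060)) q = q ∧ Adj p q).card else 0) = 1755 := by
    intro p
    have h1 : ((1 : H) : Equiv.Perm (Fin 4060)) p = p := rfl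
    rw [if_pos h1, ← card_adj p]
    congr 1
    ext q
    rw [mem_filter, mem_filter]
    have h2 : ((1 : H) : Equiv.Perm (Fin 4060)) q = q := rfl
    simp [h2]
  rw [o1, Finset.sum_congr rfl fun p _ => h p, Finset.sum_const, Finset.card_univ, Fintype.card_fin, smul_eq_mul]

theorem pf0 : PF ⟨[], 1, 145926144000, [], 0, 0, 7125300⟩ := by
  refine ⟨orderOf_one, o1_one, fun p hp => absurd hp List.not_mem_nil, ?_⟩
  rw [← card_H]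
  exact Subgroup.card_le_card_group _

theorem FL_ok : ∀ f ∈ FL, PF f :=
  List.forall_mem_cons.2 ⟨pf0, 
  List.forall_mem_cons.2 ⟨pf_of (by decide) (by norm_num) kf1 cl1,
  List.forall_mem_cons.2 ⟨pf_of (by decide) (by norm_num) kf2 cl2,
  List.forall_mem_cons.2 ⟨pf_of (by decide) (by norm_num) kf3 cl3,
  List.forall_mem_cons.2 ⟨pf_of (by decide) (by norm_num) kf4 cl4,
  List.forall_mem_cons.2 ⟨pf_of (by decide) (by norm_num) kf5 cl5,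
  List.forall_mem_cons.2 ⟨pf_of (by decide) (by norm_num) kf6 cl6,
  List.forall_mem_cons.2 ⟨pf_of (by decide) (by norm_num) kf7 cl7,
  List.forall_mem_cons.2 ⟨pf_of (by decide) (by norm_num) kf8 cl8,
  List.forall_mem_cons.2 ⟨pf_of (by decide) (by norm_num) kf9 cl9,
  List.forall_mem_cons.2 ⟨pf_of (by decide) (by norm_num) kf10 cl10,
  List.forall_mem_cons.2 ⟨pf_of (by decide) (by norm_num) kf11 cl11,
  List.forall_mem_cons.2 ⟨pf_of (by decide) (by norm_num) kf12 cl12,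
  List.forall_mem_cons.2 ⟨pf_of (by decide) (by norm_num) kf13 cl13,
  List.forall_mem_cons.2 ⟨pf_of (by decide) (by norm_num) kf14 cl14,
  List.forall_mem_cons.2 ⟨pf_of (by decide) (by norm_num) kf15 cl15,
  List.forall_mem_cons.2 ⟨pf_of (by decide) (by norm_num) kf16 cl16,
  List.forall_mem_cons.2 ⟨pf_of (by decide) (by norm_num) kf17 cl17,
  List.forall_mem_cons.2 ⟨pf_of (by decide) (by norm_num) kf18 cl18,
  List.forall_mem_cons.2 ⟨pf_of (by decide) (by norm_num) kf19 cl19,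
  List.forall_mem_cons.2 ⟨pf_of (by decide) (by norm_num) kf20 cl20,
  List.forall_mem_cons.2 ⟨pf_of (by decide) (by norm_num) kf21 cl21,
  List.forall_mem_cons.2 ⟨pf_of (by decide) (by norm_num) kf22 cl22,
  List.forall_mem_cons.2 ⟨pf_of (by decide) (by norm_num) kf23 cl23,
  List.forall_mem_cons.2 ⟨pf_of (by decide) (by norm_num) kf24 cl24,
  List.forall_mem_cons.2 ⟨pf_of (by decide) (by norm_num) kf25 cl25,
  List.forall_mem_cons.2 ⟨pf_of (by decide) (by norm_num) kf26 cl26,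
  List.forall_mem_cons.2 ⟨pf_of (by decide) (by norm_num) kf27 cl27,
  fun _ h => absurd h List.not_mem_nil⟩⟩⟩⟩⟩⟩⟩⟩⟩⟩⟩⟩⟩⟩⟩⟩⟩⟩⟩⟩⟩⟩⟩⟩⟩⟩⟩⟩

def PR (r : Rp) : Prop := a1 (X r.i ^ r.k) = (fm r.i).A ∧ j13 (X r.i ^ r.k) = r.J ∧ sw (X r.i ^ r.k) = (fm r.i).S

theorem pr_of {w : List ℕ} {k J A S : ℕ} (hw : okW w = true) (h : chkR w k J A S = true) :
    a1 ((wprod ml w) ^ k) = A ∧ j13 ((wprod ml w) ^ k) = J ∧ sw ((wprod ml w) ^ k) = S := by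
  rw [chkR, BitNetSimple.force_eq, BitNetSimple.force_eq, BitNetSimple.force_eq] at h
  obtain ⟨h1, h⟩ := and2 h
  obtain ⟨h2, h3⟩ := and2 h
  have hT := isTab_tbp (isTab_tbl hw) k
  refine ⟨?_, ?_, ?_⟩
  · rw [a1_eval hT]
    exact Nat.eq_of_beq_eq_true h1
  · rw [j13_eval hT]
    exact Nat.eq_of_beq_eq_true h3
  · rw [sw_eval hT]
    exact Nat.eq_of_beq_eq_true h2

theorem RL_ok : ∀ r ∈ RL, PR r :=
  List.forall_mem_cons.2 ⟨pr_of (by decide) kr0,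
  List.forall_mem_cons.2 ⟨pr_of (by decide) kr1,
  List.forall_mem_cons.2 ⟨pr_of (by decide) kr2,
  List.forall_mem_cons.2 ⟨pr_of (by decide) kr3,
  List.forall_mem_cons.2 ⟨pr_of (by decide) kr4,
  List.forall_mem_cons.2 ⟨pr_of (by decide) kr5,
  List.forall_mem_cons.2 ⟨pr_of (by decide) kr6,
  List.forall_mem_cons.2 ⟨pr_of (by decide) kr7,
  List.forall_mem_cons.2 ⟨pr_of (by decide) kr8,
  List.forall_mem_cons.2 ⟨pr_of (by decide) kr9,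
  List.forall_mem_cons.2 ⟨pr_of (by decide) kr10,
  List.forall_mem_cons.2 ⟨pr_of (by decide) kr11,
  List.forall_mem_cons.2 ⟨pr_of (by decide) kr12,
  List.forall_mem_cons.2 ⟨pr_of (by decide) kr13,
  List.forall_mem_cons.2 ⟨pr_of (by decide) kr14,
  List.forall_mem_cons.2 ⟨pr_of (by decide) kr15,
  List.forall_mem_cons.2 ⟨pr_of (by decide) kr16,
  List.forall_mem_cons.2 ⟨pr_of (by decide) kr17,
  List.forall_mem_cons.2 ⟨pr_of (by decide) kr18,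
  List.forall_mem_cons.2 ⟨pr_of (by decide) kr19,
  List.forall_mem_cons.2 ⟨pr_of (by decide) kr20,
  List.forall_mem_cons.2 ⟨pr_of (by decide) kr21,
  List.forall_mem_cons.2 ⟨pr_of (by decide) kr22,
  List.forall_mem_cons.2 ⟨pr_of (by decide) kr23,
  List.forall_mem_cons.2 ⟨pr_of (by decide) kr24,
  List.forall_mem_cons.2 ⟨pr_of (by decide) kr25,
  List.forall_mem_cons.2 ⟨pr_of (by decide) kr26,
  List.forall_mem_cons.2 ⟨pr_of (by decide) kr27,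
  List.forall_mem_cons.2 ⟨pr_of (by decide) kr28,
  List.forall_mem_cons.2 ⟨pr_of (by decide) kr29,
  List.forall_mem_cons.2 ⟨pr_of (by decide) kr30,
  List.forall_mem_cons.2 ⟨pr_of (by decide) kr31,
  List.forall_mem_cons.2 ⟨pr_of (by decide) kr32,
  List.forall_mem_cons.2 ⟨pr_of (by decide) kr33,
  List.forall_mem_cons.2 ⟨pr_of (by decide) kr34,
  List.forall_mem_cons.2 ⟨pr_of (by decide) kr35,
  fun _ h => absurd h List.not_mem_nil⟩⟩⟩⟩⟩⟩⟩⟩⟩⟩⟩⟩⟩⟩⟩⟩⟩⟩⟩⟩⟩⟩⟩⟩⟩⟩⟩⟩⟩⟩⟩⟩⟩⟩⟩⟩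

theorem ii_pow {w : List ℕ} {k v : ℕ} (hw : okW w = true) (h : iiW w k = v) : ii ((wprod ml w) ^ k) = v := by
  rw [iiW, BitNetSimple.force_eq, BitNetSimple.force_eq] at h
  rw [ii_eval (isTab_tbp (isTab_tbl hw) k)]
  exact h

theorem ii1 : ii (X 22 ^ 1) = 24 := ii_pow (by decide) ki1
theorem ii3 : ii (X 22 ^ 3) = 8 := ii_pow (by decide) ki3

end Cfsg.Agent.H300.Ru
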